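import Cfsg.Agent.Lib.Block.TI.Setup
import Cfsg.Agent.Lib.Block.Cyclic.PrincipalSq
import Cfsg.Agent.Lib.Char.Induction

/-!
# Sections at a Sylow subgroup with uniform centralisers

`mult θ l` is the multiplicity of `l × 1` in the restriction of `θ` to `C = P × O_{p'}(C)`; the differences
`mult θ a - mult θ b` are orthogonal to the degrees and have squares summing to `2` or `1 + e`, and
`|P| ∑ (mult θ l)² < e |P| + (∑ mult θ l)²` in the principal block.
-/

open Finset
open scoped ComplexConjugate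

set_option linter.unusedSectionVars false

namespace CfsgLib.Block.TI.Uniform

open Cfsg CfsgLib.Char CfsgLib.Block

universe u

variable {p : ℕ} [Fact p.Prime] {G : Type u} [Group G] [Fintype G] [DecidableEq G] (D : Uniform p G)

/-- The inflation of a character of `P` to `C`. -/
noncomputable def lam (l : IrrCharacter D.Q) : IrrCharacter D.C :=
  ⟨fun c => (l : D.Q → ℂ) (D.proj c), isIrrCharacter_comp_surjective l.2 _ D.proj_surjective⟩

theorem lam_apply (l : IrrCharacter D.Q) (c : D.C) :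
    (D.lam l : D.C → ℂ) c = (l : D.Q → ℂ) (D.proj c) := rfl

theorem lam_injective : Function.Injective D.lam := fun a b h => Subtype.ext (funext fun u => by
  obtain ⟨c, rfl⟩ := D.proj_surjective u
  exact congrFun (congrArg Subtype.val h) c)

theorem lam_conjC (n : D.N) (l : IrrCharacter D.Q) (c : D.C) :
    (D.lam l : D.C → ℂ) (D.conjC n c) = (D.lam (D.act n l) : D.C → ℂ) c :=
  congrArg (l : D.Q → ℂ) (D.proj_conjC n c)

theorem isClassFunction_Q (f : D.Q → ℂ) : IsClassFunction D.Q f := fun a b =>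
  congrArg f (Subtype.ext (by simp [(D.commute_PP b.2 a.2).eq]))

variable [Fintype D.C] [Fintype D.Q]

open scoped Classical in
/-- The elements over an element of `P`. -/
noncomputable def fib (u : D.Q) : Finset D.C := Finset.univ.filter fun c => D.proj c = u

theorem mem_fib {u : D.Q} {c : D.C} : c ∈ D.fib u ↔ D.proj c = u := by
  classical
  simp [fib]

theorem proj_coe_mul (u : D.Q) (c : D.C) : D.proj (⟨u, D.Q_le_C u.2⟩ * c) = u * D.proj c := by
  rw [map_mul, proj_coe]

theorem sum_fib_eq {β : Type*} [AddCommMonoid β] (F : D.C → β) (u : D.Q) :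
    ∑ c ∈ D.fib u, F c = ∑ c ∈ D.fib 1, F (⟨u, D.Q_le_C u.2⟩ * c) := by
  refine (Finset.sum_equiv (Equiv.mulLeft (⟨u, D.Q_le_C u.2⟩ : D.C)) (fun c => ?_) fun _ _ => rfl).symm
  simp [mem_fib, D.proj_coe_mul]

theorem card_fib (u : D.Q) : (D.fib u).card = (D.fib 1).card := by
  rw [Finset.card_eq_sum_ones, Finset.card_eq_sum_ones, D.sum_fib_eq]

theorem sum_by_fib {β : Type*} [AddCommMonoid β] (F : D.C → β) :
    ∑ c, F c = ∑ u, ∑ c ∈ D.fib u, F c := by
  classical
  rw [← Finset.sum_fiberwise_of_maps_to (g := D.proj) fun c _ => Finset.mem_univ _]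
  refine Finset.sum_congr rfl fun u _ => ?_
  exact Finset.sum_congr (by ext; simp [mem_fib]) fun _ _ => rfl

theorem card_C_eq : Nat.card D.C = Nat.card D.Q * (D.fib 1).card := by
  rw [Nat.card_eq_fintype_card, Nat.card_eq_fintype_card, ← Finset.card_univ, Finset.card_eq_sum_ones,
    D.sum_by_fib, Finset.sum_congr rfl fun u _ => (Finset.card_eq_sum_ones _).symm.trans (D.card_fib u),
    Finset.sum_const, Finset.card_univ, smul_eq_mul]

/-- The section: the average over the fibre. -/
noncomputable def sec (F : G → ℂ) (u : D.Q) : ℂ :=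
  (Nat.card D.Q : ℂ) * (Nat.card D.C : ℂ)⁻¹ * ∑ c ∈ D.fib u, F c

/-- The coefficient of `l × 1`. -/
noncomputable def mc (F : G → ℂ) (l : IrrCharacter D.Q) : ℂ :=
  classInner (fun c : D.C => F c) (D.lam l : D.C → ℂ)

theorem mc_eq (F : G → ℂ) (l : IrrCharacter D.Q) : D.mc F l = classInner (D.sec F) (l : D.Q → ℂ) := by
  have hq : (Nat.card D.Q : ℂ) ≠ 0 := Nat.cast_ne_zero.mpr Nat.card_pos.ne'
  simp only [mc, classInner, sec]
  rw [D.sum_by_fib, Finset.mul_sum, Finset.mul_sum]
  refine Finset.sum_congr rfl fun u _ => ?_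
  rw [Finset.sum_congr rfl fun c hc => by rw [lam_apply, D.mem_fib.mp hc], ← Finset.sum_mul]
  field_simp

theorem sec_eq [Fintype (IrrCharacter D.Q)] (F : G → ℂ) (u : D.Q) :
    D.sec F u = ∑ l, D.mc F l * (l : D.Q → ℂ) u := by
  have h := congrFun (classFun_expand (D.isClassFunction_Q (D.sec F))) u
  simpa only [Finset.sum_apply, Pi.smul_apply, smul_eq_mul, ← mc_eq] using h

theorem sec_of_const {F : G → ℂ} {u : D.Q} {a : ℂ} (h : ∀ c ∈ D.fib u, F c = a) : D.sec F u = a := by
  have hq : (Nat.card D.Q : ℂ) ≠ 0 := Nat.cast_ne_zero.mpr Nat.card_pos.ne'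
  have hf : ((D.fib 1).card : ℂ) ≠ 0 := Nat.cast_ne_zero.mpr fun e =>
    (Nat.card_pos (α := D.C)).ne' (by rw [D.card_C_eq, e, mul_zero])
  rw [sec, Finset.sum_congr rfl h, Finset.sum_const, nsmul_eq_mul, D.card_fib, D.card_C_eq,
    Nat.cast_mul]
  field_simp

/-- The multiplicity of `l × 1`. -/
noncomputable def mult (θ : IrrCharacter G) (l : IrrCharacter D.Q) : ℕ :=
  (classInner_isCharacter (isCharacter_comp (isCharacter_irr θ) D.C.subtype)
    (isCharacter_irr (D.lam l))).choose

theorem mult_spec (θ : IrrCharacter G) (l : IrrCharacter D.Q) :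
    D.mc (θ : G → ℂ) l = (D.mult θ l : ℂ) :=
  (classInner_isCharacter (isCharacter_comp (isCharacter_irr θ) D.C.subtype)
    (isCharacter_irr (D.lam l))).choose_spec

theorem mult_act (n : D.N) (θ : IrrCharacter G) (l : IrrCharacter D.Q) :
    D.mult θ (D.act n l) = D.mult θ l := by
  have h : D.mc (θ : G → ℂ) (D.act n l) = D.mc (θ : G → ℂ) l := by
    simp only [mc, classInner]
    congr 1
    refine Fintype.sum_bijective _ (D.conjC_bijective n) _ _ fun c => ?_
    rw [lam_conjC]
    show _ = (θ : G → ℂ) ((n : G) * c * (n : G)⁻¹) * _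
    rw [isClassFunction_irr θ]
  rw [mult_spec, mult_spec] at h
  exact_mod_cast h

theorem mult_one_char (l : IrrCharacter D.Q) [Decidable (l = oneChar D.Q)] :
    D.mult (oneChar G) l = if l = oneChar D.Q then 1 else 0 := by
  classical
  have h := D.mult_spec (oneChar G) l
  rw [mc, show (fun c : D.C => (oneChar G : G → ℂ) c) = (D.lam (oneChar D.Q) : D.C → ℂ) from
    funext fun _ => rfl, classInner_irr] at h
  by_cases hl : l = oneChar D.Q
  · subst hl
    rw [if_pos rfl] at h ⊢
    exact_mod_cast h.symm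
  · rw [if_neg fun e => hl (D.lam_injective e).symm] at h
    rw [if_neg hl]
    exact_mod_cast h.symm

theorem sec_one_eq [Fintype (IrrCharacter D.Q)] (θ : IrrCharacter G) :
    D.sec (θ : G → ℂ) 1 = ((∑ l, D.mult θ l : ℕ) : ℂ) := by
  rw [sec_eq, Nat.cast_sum]
  exact Finset.sum_congr rfl fun l _ => by rw [mult_spec, D.lin_one, mul_one]

theorem sum_mult_le [Fintype (IrrCharacter D.Q)] (θ : IrrCharacter G) :
    ∑ l, D.mult θ l ≤ charDegree (θ : G → ℂ) := by
  classical
  have := Fintype.ofFinite (IrrCharacter G)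
  have hC : (0 : ℝ) < Nat.card D.C := Nat.cast_pos.mpr Nat.card_pos
  have h : ((∑ l, D.mult θ l : ℕ) : ℝ) ≤ (charDegree (θ : G → ℂ) : ℝ) := by
    rw [← RCLike.norm_natCast (K := ℂ), ← D.sec_one_eq, sec, norm_mul, norm_mul, norm_inv,
      RCLike.norm_natCast, RCLike.norm_natCast]
    refine le_trans (mul_le_mul_of_nonneg_left ((norm_sum_le _ _).trans
      (Finset.sum_le_card_nsmul _ _ (charDegree (θ : G → ℂ) : ℝ) fun c _ => ?_)) (by positivity)) ?_
    · have := norm_irr_le θ (c : G)
      rwa [(charDegree_eq θ).1, Complex.natCast_re] at this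
    · rw [nsmul_eq_mul, mul_right_comm, mul_comm _ (Nat.card D.C : ℝ)⁻¹, ← mul_assoc,
        ← mul_assoc, mul_assoc _ (Nat.card D.Q : ℝ), ← Nat.cast_mul, ← D.card_C_eq,
        inv_mul_cancel₀ hC.ne', one_mul]
  exact_mod_cast h

/-! ### The principal block -/

variable {M : Ideal AlgInt} [M.IsMaximal] (hM : IsPModular p M)

include hM in
theorem value_of_principal {θ : IrrCharacter G} (hθ : θ ∈ principalBlock M G) {c : D.C}
    (hc : D.proj c ≠ 1) : (θ : G → ℂ) c = (θ : G → ℂ) ((D.proj c : D.Q) : G) := by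
  classical
  have := Fintype.ofFinite (IrrCharacter G)
  have := Fintype.ofFinite (IrrCharacter D.C)
  set x : G := ((D.proj c : D.Q) : G) with hx
  have hx1 : x ≠ 1 := fun e => hc (Subtype.ext e)
  obtain ⟨b, hb, -, hxp, hb'⟩ := D.proj_spec c
  have hC := D.hC (D.proj c).2 hx1
  have hbC : b ∈ D.C := by
    rw [show b = x⁻¹ * (c : G) by rw [← hb, inv_mul_cancel_left]]
    exact mul_mem (inv_mem (D.Q_le_C (D.proj c).2)) c.2
  have hy : ¬ p ∣ orderOf (⟨b, hbC⟩ : D.C) := by rwa [← Subgroup.orderOf_coe]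
  have h1 : ¬ p ∣ orderOf (1 : D.C) := by simp [(Fact.out : p.Prime).ne_one]
  have e1 := Cyclic.secFun_principal_eq hM hxp hC hθ hy
  have e2 := Cyclic.secFun_principal_eq hM hxp hC hθ h1
  have e : blockPart (principalBlock M D.C) (secFun x D.C θ) (⟨b, hbC⟩ : D.C) =
      blockPart (principalBlock M D.C) (secFun x D.C θ) 1 := by
    rw [blockPart_eq, blockPart_eq]
    refine Finset.sum_congr rfl fun η hη => ?_
    rw [irr_eq_one_of_regular hM D.hasNormalPComplement_C (Finset.mem_filter.mp hη).2 hy]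
  rw [← e1, ← e2] at e
  simp only [secFun, OneMemClass.coe_one, mul_one] at e
  rwa [hb] at e

include hM in
theorem sec_of_principal {θ : IrrCharacter G} (hθ : θ ∈ principalBlock M G) {u : D.Q} (hu : u ≠ 1) :
    D.sec (θ : G → ℂ) u = (θ : G → ℂ) (u : G) :=
  D.sec_of_const fun c hc => by
    rw [D.value_of_principal hM hθ (by rw [D.mem_fib.mp hc]; exact hu), D.mem_fib.mp hc]

include hM in
theorem sec_of_not_principal {θ : IrrCharacter G} (hθ : θ ∉ principalBlock M G) {u : D.Q}
    (hu : u ≠ 1) : D.sec (θ : G → ℂ) u = 0 := by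
  classical
  have := Fintype.ofFinite (IrrCharacter G)
  have := Fintype.ofFinite (IrrCharacter D.C)
  set x : G := (u : G) with hx
  have hx1 : x ≠ 1 := fun e => hu (Subtype.ext e)
  have hC := D.hC u.2 hx1
  have hC' : ∀ t : D.C, Commute (t : G) x := fun t => (hC t).mp t.2
  have hxp := D.orderOf_mem u.2
  let U : Finset (Set (IrrCharacter D.C)) := Finset.univ.filter (fun b => IsPBlock M b)
  have hU : ∀ b, b ∈ U ↔ IsPBlock M b := fun b => by simp [U]
  rw [sec, D.sum_fib_eq]
  refine mul_eq_zero_of_right _ ?_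
  rw [Finset.sum_congr rfl fun c _ => show (θ : G → ℂ) ((⟨u, D.Q_le_C u.2⟩ * c : D.C) : G) =
    ∑ b ∈ U, blockPart b (secFun x D.C θ) c from secFun_eq_sum_blockPart hM hC' θ c U hU,
    Finset.sum_comm]
  refine Finset.sum_eq_zero fun b hb => ?_
  by_cases hbp : b = principalBlock M D.C
  · refine Finset.sum_eq_zero fun c hc => ?_
    obtain ⟨B, hB⟩ := exists_induced_centralizer hM hxp hC ((hU b).mp hb)
    refine blockPart_secFun_eq_zero hM hxp hC hB ?_ (D.proj_eq_one_iff.mp (D.mem_fib.mp hc))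
    rwa [(isInducedBlock_principal_iff hM hB).mpr hbp]
  · simp only [blockPart_eq]
    rw [Finset.sum_comm]
    refine Finset.sum_eq_zero fun η hη => ?_
    rw [← Finset.mul_sum]
    refine mul_eq_zero_of_right _ ?_
    have hη1 : η ∉ principalBlock M D.C := fun h =>
      hbp (isPBlock_eq_of_mem ((hU b).mp hb) isPBlock_principalBlock (Finset.mem_filter.mp hη).2 h)
    have h := card_mul_regInner p η (oneChar D.C)
    rw [regInner_eq_zero_of_not_mem hM (S := blockOf M (η : D.C → ℂ))
      (.of_isPBlock (isPBlock_blockOf η)) (self_mem_blockOf η)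
      (fun h => hη1 (sameBlock_symm h)), mul_zero] at h
    rw [h]
    exact Finset.sum_congr (by ext; simp [mem_fib, D.proj_eq_one_iff]) fun c _ => by simp [oneChar]

include hM in
/-- Outside the principal block the multiplicities are constant. -/
theorem mult_eq_of_not_principal {θ : IrrCharacter G} (hθ : θ ∉ principalBlock M G)
    (l : IrrCharacter D.Q) : D.mult θ l = D.mult θ (oneChar D.Q) := by
  classical
  have h : D.mc (θ : G → ℂ) l = D.mc (θ : G → ℂ) (oneChar D.Q) := by
    rw [mc_eq, mc_eq, classInner, classInner,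
      Finset.sum_eq_single 1 (fun u _ hu => by rw [D.sec_of_not_principal hM hθ hu, zero_mul])
        (fun h => absurd (Finset.mem_univ _) h),
      Finset.sum_eq_single 1 (fun u _ hu => by rw [D.sec_of_not_principal hM hθ hu, zero_mul])
        (fun h => absurd (Finset.mem_univ _) h), D.lin_one, D.lin_one]
  rw [mult_spec, mult_spec] at h
  exact_mod_cast h

include hM in
/-- In the principal block a small degree is the sum of the multiplicities. -/
theorem sum_mult_eq_deg [Fintype (IrrCharacter D.Q)] {θ : IrrCharacter G}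
    (hθ : θ ∈ principalBlock M G) (hd : charDegree (θ : G → ℂ) < Nat.card D.Q) :
    ∑ l, D.mult θ l = charDegree (θ : G → ℂ) := by
  classical
  obtain ⟨k, hk⟩ := classInner_isCharacter (isCharacter_comp (isCharacter_irr θ) D.Q.subtype)
    (isCharacter_irr (oneChar D.Q))
  have hq : (Nat.card D.Q : ℂ) ≠ 0 := Nat.cast_ne_zero.mpr Nat.card_pos.ne'
  have h1 := D.mc_eq (θ : G → ℂ) (oneChar D.Q)
  rw [mult_spec, classInner, eq_inv_mul_iff_mul_eq₀ hq] at h1
  rw [classInner, inv_mul_eq_iff_eq_mul₀ hq] at hk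
  simp only [show ∀ x, (oneChar D.Q : D.Q → ℂ) x = 1 from fun _ => rfl, map_one, mul_one] at h1 hk
  rw [← Finset.add_sum_erase _ _ (Finset.mem_univ (1 : D.Q))] at h1 hk
  rw [Finset.sum_congr rfl fun u hu => D.sec_of_principal hM hθ (Finset.mem_erase.mp hu).1,
    D.sec_one_eq] at h1
  rw [show D.Q.subtype (1 : D.Q) = 1 from rfl, (charDegree_eq θ).1] at hk
  have hle := D.sum_mult_le θ
  generalize ∑ l, D.mult θ l = s at h1 hle ⊢
  have he : (Nat.card D.Q * k : ℕ) + s = Nat.card D.Q * D.mult θ (oneChar D.Q) + charDegree (θ : G → ℂ) := by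
    have : ((Nat.card D.Q * k : ℕ) : ℂ) + (s : ℂ) =
        ((Nat.card D.Q * D.mult θ (oneChar D.Q) : ℕ) : ℂ) + (charDegree (θ : G → ℂ) : ℂ) := by
      push_cast
      simp only [Subgroup.coe_subtype] at hk
      linear_combination -h1 - hk
    exact_mod_cast this
  rcases lt_trichotomy k (D.mult θ (oneChar D.Q)) with h | h | h
  · have := Nat.mul_le_mul_left (Nat.card D.Q) (Nat.succ_le_of_lt h)
    rw [Nat.mul_succ] at this
    omega
  · subst h; omega
  · have := Nat.mul_le_mul_left (Nat.card D.Q) (Nat.succ_le_of_lt h)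
    rw [Nat.mul_succ] at this
    omega

/-! ### Functions induced from `C` -/

variable [Fintype D.N]

/-- Induced functions on the singular elements of `C`. -/
theorem indFun_apply_singular {h : D.C → ℂ} (hh : ∀ c, D.proj c = 1 → h c = 0) {c : D.C}
    (hc : D.proj c ≠ 1) :
    indFun D.C h c = (Nat.card D.C : ℂ)⁻¹ * ∑ n : D.N, h (D.conjC n c) := by
  classical
  rw [indFun]
  congr 1
  rw [← Finset.sum_subset (Finset.subset_univ (Finset.univ.filter fun x : G => x ∈ D.N)) fun x _ hx => ?_,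
    Finset.sum_subtype (p := fun x => x ∈ D.N) _ (fun x => by simp)]
  · refine Fintype.sum_equiv (Equiv.inv D.N) _ _ fun n => ?_
    rw [show ((n : G))⁻¹ * (c : G) * (n : G) = ((D.conjC n⁻¹ c : D.C) : G) by simp [conjC],
      extendByZero_mem _ _ (D.conjC n⁻¹ c).2]
    rfl
  · by_cases hm : x⁻¹ * (c : G) * x ∈ D.C
    · rw [extendByZero_mem _ _ hm]
      refine hh _ ?_
      by_contra h1
      refine hx ?_
      simp only [Finset.mem_filter, Finset.mem_univ, true_and]
      exact (D.N).inv_mem_iff.mp (D.mem_N_of_conj hc (x := x⁻¹) (d := ⟨_, hm⟩) (by simp))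
    · exact extendByZero_not_mem _ _ hm

/-- Inner products of induced functions. -/
theorem classInner_ind {h h' : D.C → ℂ} (hh : ∀ c, D.proj c = 1 → h c = 0)
    (hh' : ∀ c, D.proj c = 1 → h' c = 0) :
    classInner (indFun D.C h) (indFun D.C h') =
      (Nat.card D.C : ℂ)⁻¹ * ∑ n : D.N, classInner h (fun c => h' (D.conjC n c)) := by
  rw [classInner_indFun _ _ _ (isClassFunction_indFun _ _)]
  simp only [classInner, Finset.mul_sum]
  rw [Finset.sum_comm]
  refine Finset.sum_congr rfl fun c _ => ?_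
  by_cases hc : D.proj c = 1
  · simp [hh c hc]
  · rw [D.indFun_apply_singular hh' hc, map_mul, map_inv₀, map_natCast, map_sum, Finset.mul_sum,
      Finset.mul_sum, Finset.mul_sum]
    exact Finset.sum_congr rfl fun n _ => by ring

theorem lam_diff_vanish (a b : IrrCharacter D.Q) :
    ∀ c, D.proj c = 1 → ((D.lam a : D.C → ℂ) - (D.lam b : D.C → ℂ)) c = 0 := fun c hc => by
  simp [lam_apply, hc, D.lin_one]

variable [Fintype (IrrCharacter G)]

theorem classInner_ind_diff (θ : IrrCharacter G) (a b : IrrCharacter D.Q) :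
    classInner (indFun D.C ((D.lam a : D.C → ℂ) - (D.lam b : D.C → ℂ))) (θ : G → ℂ) =
      (D.mult θ a : ℂ) - (D.mult θ b : ℂ) := by
  rw [classInner_indFun _ _ _ (isClassFunction_irr θ), classInner_sub_left,
    ← classInner_conj, ← classInner_conj (fun h : D.C => (θ : G → ℂ) h)]
  show conj (D.mc _ a) - conj (D.mc _ b) = _
  rw [mult_spec, mult_spec, map_natCast, map_natCast]

/-- Orthogonality to the degrees. -/
theorem sum_deg_mul_diff (a b : IrrCharacter D.Q) :
    ∑ θ : IrrCharacter G, (charDegree (θ : G → ℂ) : ℤ) * ((D.mult θ a : ℤ) - D.mult θ b) = 0 := by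
  have h := congrFun (classFun_expand (isClassFunction_indFun D.C
    ((D.lam a : D.C → ℂ) - (D.lam b : D.C → ℂ)))) 1
  rw [indFun_one, D.lam_diff_vanish a b 1 (map_one _), mul_zero, Finset.sum_apply] at h
  have : ((∑ θ : IrrCharacter G, (charDegree (θ : G → ℂ) : ℤ) *
      ((D.mult θ a : ℤ) - D.mult θ b) : ℤ) : ℂ) = 0 := by
    rw [h, Int.cast_sum]
    refine Finset.sum_congr rfl fun θ _ => ?_
    rw [Pi.smul_apply, smul_eq_mul, D.classInner_ind_diff, (charDegree_eq θ).1]
    push_cast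
    ring
  exact_mod_cast this

theorem sum_sq_diff_eq (a b : IrrCharacter D.Q) [∀ n, Decidable (a = D.act n a)]
    [∀ n, Decidable (a = D.act n b)] [∀ n, Decidable (b = D.act n a)] [∀ n, Decidable (b = D.act n b)] :
    ((∑ θ : IrrCharacter G, ((D.mult θ a : ℤ) - D.mult θ b) ^ 2 : ℤ) : ℂ) * (Nat.card D.C : ℂ) =
      ∑ n : D.N, ((if a = D.act n a then 1 else 0) - (if a = D.act n b then 1 else 0) -
        (if b = D.act n a then 1 else 0) + (if b = D.act n b then 1 else 0)) := by
  classical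
  set T := indFun D.C ((D.lam a : D.C → ℂ) - (D.lam b : D.C → ℂ)) with hT
  have h1 : classInner T T =
      ((∑ θ : IrrCharacter G, ((D.mult θ a : ℤ) - D.mult θ b) ^ 2 : ℤ) : ℂ) := by
    rw [classInner_expand (isClassFunction_indFun _ _), Int.cast_sum]
    refine Finset.sum_congr rfl fun θ _ => ?_
    rw [hT, D.classInner_ind_diff, map_sub, map_natCast, map_natCast]
    push_cast
    ring
  have hC : (Nat.card D.C : ℂ) ≠ 0 := Nat.cast_ne_zero.mpr Nat.card_pos.ne'
  rw [← h1, hT, D.classInner_ind (D.lam_diff_vanish a b) (D.lam_diff_vanish a b), mul_right_comm,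
    inv_mul_cancel₀ hC, one_mul]
  refine Finset.sum_congr rfl fun n _ => ?_
  rw [show (fun c => ((D.lam a : D.C → ℂ) - (D.lam b : D.C → ℂ)) (D.conjC n c)) =
      (D.lam (D.act n a) : D.C → ℂ) - (D.lam (D.act n b) : D.C → ℂ) from
      funext fun c => by simp [lam_conjC],
    classInner_sub_left, classInner_sub_right, classInner_sub_right, classInner_irr, classInner_irr,
    classInner_irr, classInner_irr]
  simp only [D.lam_injective.eq_iff]
  ring

/-- The squares of the differences against the trivial character. -/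
theorem sum_sq_diff_one {a : IrrCharacter D.Q} (ha : a ≠ oneChar D.Q) :
    ∑ θ : IrrCharacter G, ((D.mult θ a : ℤ) - D.mult θ (oneChar D.Q)) ^ 2 = 1 + D.e := by
  classical
  have h := D.sum_sq_diff_eq a (oneChar D.Q)
  have e2 : ∀ n, ¬ a = D.act n (oneChar D.Q) := fun n e => ha (e.trans (D.act_triv n))
  have e3 : ∀ n, ¬ oneChar D.Q = D.act n a := fun n e =>
    ha (D.act_injective n (e.symm.trans (D.act_triv n).symm))
  simp only [if_neg ha, if_neg (e3 _), D.act_triv, if_true, sub_zero, Finset.sum_add_distrib,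
    Finset.sum_const, Finset.card_univ, nsmul_eq_mul, mul_one, Finset.sum_boole] at h
  have hs : (Finset.univ.filter fun n : D.N => a = D.act n a).card = Nat.card D.C := by
    rw [← D.card_stab ha, Nat.card_eq_fintype_card, Fintype.card_subtype]
    exact congrArg Finset.card (Finset.filter_congr fun n _ => eq_comm)
  rw [hs, ← Nat.card_eq_fintype_card, D.card_N] at h
  have hC : (Nat.card D.C : ℂ) ≠ 0 := Nat.cast_ne_zero.mpr Nat.card_pos.ne'
  have : ((∑ θ : IrrCharacter G, ((D.mult θ a : ℤ) - D.mult θ (oneChar D.Q)) ^ 2 : ℤ) : ℂ) =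
      ((1 + D.e : ℤ) : ℂ) := by
    apply mul_right_cancel₀ hC
    rw [h]
    push_cast
    ring
  exact_mod_cast this

/-- The squares of the differences of characters in different orbits. -/
theorem sum_sq_diff_two {a b : IrrCharacter D.Q} (ha : a ≠ oneChar D.Q) (hb : b ≠ oneChar D.Q)
    (hab : b ∉ D.orbit a) :
    ∑ θ : IrrCharacter G, ((D.mult θ a : ℤ) - D.mult θ b) ^ 2 = 2 := by
  classical
  have h := D.sum_sq_diff_eq a b
  have e3 : ∀ n, ¬ b = D.act n a := fun n e => hab (D.mem_orbit.mpr ⟨n, e.symm⟩)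
  have e2 : ∀ n, ¬ a = D.act n b := fun n e => hab (D.mem_orbit.mpr ⟨n⁻¹, by
    rw [e, ← D.act_mul, mul_inv_cancel, D.act_one]⟩)
  simp only [if_neg (e2 _), if_neg (e3 _), sub_zero, Finset.sum_add_distrib, Finset.sum_boole] at h
  have hs : ∀ {c : IrrCharacter D.Q}, c ≠ oneChar D.Q →
      (Finset.univ.filter fun n : D.N => c = D.act n c).card = Nat.card D.C := fun hc => by
    rw [← D.card_stab hc, Nat.card_eq_fintype_card, Fintype.card_subtype]
    exact congrArg Finset.card (Finset.filter_congr fun n _ => eq_comm)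
  rw [hs ha, hs hb] at h
  have hC : (Nat.card D.C : ℂ) ≠ 0 := Nat.cast_ne_zero.mpr Nat.card_pos.ne'
  have : ((∑ θ : IrrCharacter G, ((D.mult θ a : ℤ) - D.mult θ b) ^ 2 : ℤ) : ℂ) = ((2 : ℤ) : ℂ) := by
    apply mul_right_cancel₀ hC
    rw [h]
    push_cast
    ring
  exact_mod_cast this

include hM in
/-- The norm on the singular elements of `C` is less than `e`. -/
theorem norm_bound [Fintype (IrrCharacter D.Q)] {θ : IrrCharacter G}
    (hθ : θ ∈ principalBlock M G) :
    Nat.card D.Q * ∑ l, D.mult θ l ^ 2 < D.e * Nat.card D.Q + (∑ l, D.mult θ l) ^ 2 := by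
  classical
  have hC : (Nat.card D.C : ℂ) ≠ 0 := Nat.cast_ne_zero.mpr Nat.card_pos.ne'
  have hq : (Nat.card D.Q : ℂ) ≠ 0 := Nat.cast_ne_zero.mpr Nat.card_pos.ne'
  have he : (D.e : ℂ) ≠ 0 := Nat.cast_ne_zero.mpr D.e_pos.ne'
  let h : D.C → ℂ := fun c => if D.proj c = 1 then 0 else (θ : G → ℂ) c
  have hh : ∀ c, D.proj c = 1 → h c = 0 := fun c hc => if_pos hc
  set a := classInner h h with ha
  have hT1 : indFun D.C h 1 = 0 := by rw [indFun_one, hh 1 (map_one _), mul_zero]
  have hTθ : classInner (indFun D.C h) (θ : G → ℂ) = a := by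
    rw [classInner_indFun _ _ _ (isClassFunction_irr θ), ha]
    simp only [classInner]
    congr 1
    refine Finset.sum_congr rfl fun c _ => ?_
    by_cases hc : D.proj c = 1 <;> simp [h, hc]
  have hTT : classInner (indFun D.C h) (indFun D.C h) = (D.e : ℂ) * a := by
    rw [D.classInner_ind hh hh, Finset.sum_congr rfl (g := fun _ => a) fun n _ => ?_, Finset.sum_const,
      Finset.card_univ, nsmul_eq_mul, ← Nat.card_eq_fintype_card, D.card_N]
    · push_cast
      field_simp
    · rw [ha]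
      congr 1
      funext c
      have h1 : D.proj (D.conjC n c) = 1 ↔ D.proj c = 1 := by
        simp only [D.proj_eq_one_iff, ← Subgroup.orderOf_coe]
        rw [show ((D.conjC n c : D.C) : G) = (n : G) * c * (n : G)⁻¹ from rfl, orderOf_conj_eq]
      simp only [h, h1]
      split_ifs
      · rfl
      · exact isClassFunction_irr θ _ _
  have hconj : conj a = a := by rw [ha, classInner_conj]
  have hpos := classInner_self ((θ : G → ℂ) - (D.e : ℂ)⁻¹ • indFun D.C h)
  have hval : classInner ((θ : G → ℂ) - (D.e : ℂ)⁻¹ • indFun D.C h)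
      ((θ : G → ℂ) - (D.e : ℂ)⁻¹ • indFun D.C h) = 1 - a / (D.e : ℂ) := by
    rw [classInner_sub_left, classInner_sub_right, classInner_sub_right, classInner_smul_left,
      classInner_smul_left, classInner_smul_right, classInner_smul_right, classInner_irr_self, hTθ,
      hTT, ← classInner_conj, hTθ, hconj, map_inv₀, map_natCast]
    field_simp
    ring
  have hlt : 0 < (Nat.card G : ℝ)⁻¹ *
      ∑ g : G, ‖((θ : G → ℂ) - (D.e : ℂ)⁻¹ • indFun D.C h) g‖ ^ 2 := by
    refine mul_pos (inv_pos.mpr (Nat.cast_pos.mpr Nat.card_pos)) (Finset.sum_pos' (fun g _ => by positivity)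
      ⟨1, Finset.mem_univ _, ?_⟩)
    rw [Pi.sub_apply, Pi.smul_apply, hT1, smul_zero, sub_zero]
    exact pow_pos (norm_pos_iff.mpr (irr_one_ne_zero θ)) 2
  -- the value of `a`
  have hval2 : (Nat.card D.Q : ℂ) * a =
      (Nat.card D.Q : ℂ) * ((∑ l, D.mult θ l ^ 2 : ℕ) : ℂ) - ((∑ l, D.mult θ l : ℕ) : ℂ) ^ 2 := by
    have hs : classInner (D.sec (θ : G → ℂ)) (D.sec (θ : G → ℂ)) = ((∑ l, D.mult θ l ^ 2 : ℕ) : ℂ) := by
      rw [classInner_expand (D.isClassFunction_Q _), Nat.cast_sum]
      refine Finset.sum_congr rfl fun l _ => ?_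
      rw [← mc_eq, mult_spec, map_natCast]
      push_cast
      ring
    rw [← hs, ← D.sec_one_eq, ha]
    simp only [classInner]
    rw [← mul_assoc (Nat.card D.Q : ℂ) (Nat.card D.Q : ℂ)⁻¹, mul_inv_cancel₀ hq, one_mul,
      D.sum_by_fib, ← Finset.add_sum_erase _ _ (Finset.mem_univ (1 : D.Q)),
      ← Finset.add_sum_erase _ (fun u => D.sec (θ : G → ℂ) u * conj (D.sec (θ : G → ℂ) u))
        (Finset.mem_univ (1 : D.Q)),
      Finset.sum_eq_zero (s := D.fib 1) fun c hc => by simp [h, D.mem_fib.mp hc], zero_add,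
      Finset.mul_sum, Finset.mul_sum,
      show conj (D.sec (θ : G → ℂ) 1) = D.sec (θ : G → ℂ) 1 by rw [sec_one_eq, map_natCast],
      ← sq, add_sub_cancel_left]
    refine Finset.sum_congr rfl fun u hu => ?_
    have hu1 : u ≠ 1 := (Finset.mem_erase.mp hu).1
    rw [Finset.sum_congr rfl fun c hc => show h c * conj (h c) =
      (θ : G → ℂ) (u : G) * conj ((θ : G → ℂ) (u : G)) by
        have hc' : D.proj c ≠ 1 := by rw [D.mem_fib.mp hc]; exact hu1
        simp only [h, if_neg hc', D.value_of_principal hM hθ hc', D.mem_fib.mp hc],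
      Finset.sum_const, nsmul_eq_mul, D.card_fib, D.sec_of_principal hM hθ hu1]
    have : (Nat.card D.C : ℂ) = (Nat.card D.Q : ℂ) * ((D.fib 1).card : ℂ) := by
      rw [D.card_C_eq]; push_cast; rfl
    field_simp
    rw [this]
  rw [hpos] at hval
  set P := (Nat.card G : ℝ)⁻¹ * ∑ g : G, ‖((θ : G → ℂ) - (D.e : ℂ)⁻¹ • indFun D.C h) g‖ ^ 2
  have hkey : ((D.e : ℝ) * Nat.card D.Q + ((∑ l, D.mult θ l : ℕ) : ℝ) ^ 2 -
      (Nat.card D.Q : ℝ) * ((∑ l, D.mult θ l ^ 2 : ℕ) : ℝ) : ℝ) =
      (D.e : ℝ) * (Nat.card D.Q : ℝ) * P := by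
    apply Complex.ofReal_injective
    push_cast at hval hval2 ⊢
    rw [hval]
    field_simp
    linear_combination hval2
  have hkey' : 0 < (D.e : ℝ) * Nat.card D.Q + ((∑ l, D.mult θ l : ℕ) : ℝ) ^ 2 -
      (Nat.card D.Q : ℝ) * ((∑ l, D.mult θ l ^ 2 : ℕ) : ℝ) := by
    rw [hkey]
    exact mul_pos (mul_pos (Nat.cast_pos.mpr D.e_pos) (Nat.cast_pos.mpr Nat.card_pos)) hlt
  have : ((Nat.card D.Q * ∑ l, D.mult θ l ^ 2 : ℕ) : ℝ) <
      ((D.e * Nat.card D.Q + (∑ l, D.mult θ l) ^ 2 : ℕ) : ℝ) := by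
    push_cast at hkey' ⊢
    linarith
  exact_mod_cast this

end CfsgLib.Block.TI.Uniform
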