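import Cfsg.Agent.Lib.Block.Rank
import Cfsg.Agent.Lib.Block.Subsection
import Cfsg.Agent.Lib.Char.Linear
import Cfsg.Agent.Lib.Fusion.Transfer

/-!
# Sylow subgroups with uniform centralisers

A Sylow subgroup `P` all whose non-identity elements have the centraliser `C` of `P`: `C = P × O_{p'}(C)`,
the projection `proj : C →* P` is the `p`-part, and the normaliser permutes the non-trivial characters of
`P` with stabiliser `C`.
-/

open Finset
open scoped ComplexConjugate

set_option linter.unusedSectionVars false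

namespace CfsgLib.Block.TI

open Cfsg CfsgLib.Char

universe u

/-- A non-trivial Sylow subgroup with uniform centralisers. -/
structure Uniform (p : ℕ) (G : Type u) [Group G] where
  /-- The Sylow subgroup. -/
  P : Sylow p G
  ne_bot : (P : Subgroup G) ≠ ⊥
  star : ∀ x ∈ (P : Subgroup G), x ≠ 1 →
    Subgroup.centralizer ({x} : Set G) = Subgroup.centralizer ((P : Subgroup G) : Set G)

namespace Uniform

variable {p : ℕ} [Fact p.Prime] {G : Type u} [Group G] [Fintype G] [DecidableEq G] (D : Uniform p G)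

/-- The subgroup. -/
abbrev Q : Subgroup G := (D.P : Subgroup G)

/-- The centraliser. -/
abbrev C : Subgroup G := Subgroup.centralizer (D.Q : Set G)

/-- The normaliser. -/
abbrev N : Subgroup G := Subgroup.normalizer (D.Q : Set G)

theorem hC {x : G} (hx : x ∈ D.Q) (hx1 : x ≠ 1) (t : G) : t ∈ D.C ↔ Commute t x := by
  rw [C, ← D.star x hx hx1]
  exact Subgroup.mem_centralizer_singleton_iff

theorem Q_le_C : D.Q ≤ D.C := by
  intro x hx
  by_cases hx1 : x = 1
  · subst hx1
    exact one_mem _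
  · exact (D.hC hx hx1 x).mpr (Commute.refl x)

theorem commute_Q {u : G} (hu : u ∈ D.Q) (c : D.C) : Commute u (c : G) :=
  Subgroup.mem_centralizer_iff.mp c.2 u hu

theorem commute_PP {u v : G} (hu : u ∈ D.Q) (hv : v ∈ D.Q) : Commute u v :=
  D.commute_Q hu ⟨v, D.Q_le_C hv⟩

theorem C_le_N : D.C ≤ D.N := Subgroup.centralizer_le_normalizer _

/-- A `p`-element of the centraliser lies in the Sylow subgroup. -/
theorem mem_Q_of_pElement {a : G} (ha : a ∈ D.C) {j : ℕ} (hj : orderOf a = p ^ j) : a ∈ D.Q := by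
  have haN : Subgroup.zpowers a ≤ D.N := Subgroup.zpowers_le.mpr (D.C_le_N ha)
  have hsup : IsPGroup p (D.Q ⊔ Subgroup.zpowers a : Subgroup G) :=
    IsPGroup.to_sup_of_normal_left' D.P.isPGroup'
      (IsPGroup.of_card (n := j) (by rw [Nat.card_zpowers, hj])) haN
  have h : D.Q ⊔ Subgroup.zpowers a = D.Q := D.P.is_maximal' hsup le_sup_left
  exact (sup_eq_left.mp h) (Subgroup.mem_zpowers a)

theorem orderOf_mem {u : G} (hu : u ∈ D.Q) : ∃ j : ℕ, orderOf u = p ^ j := by
  obtain ⟨j, hj⟩ := D.P.isPGroup' ⟨u, hu⟩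
  obtain ⟨i, -, hi⟩ := (Nat.dvd_prime_pow (Fact.out : p.Prime)).mp
    (orderOf_dvd_of_pow_eq_one (congrArg Subtype.val hj : u ^ p ^ j = 1))
  exact ⟨i, hi⟩

theorem hasNormalPComplement_C : Cfsg.HasNormalPComplement p D.C := by
  refine CfsgLib.Fusion.hasNormalPComplement_of_normalizer_le_centralizer (D.P.subtype D.Q_le_C) ?_
  intro c _
  refine Subgroup.mem_centralizer_iff.mpr fun u hu => Subtype.ext ?_
  rw [SetLike.mem_coe, Sylow.coe_subtype, Subgroup.mem_subgroupOf] at hu
  exact (D.commute_Q hu c).eq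

theorem regular_mul {a b : D.C} (ha : ¬ p ∣ orderOf a) (hb : ¬ p ∣ orderOf b) :
    ¬ p ∣ orderOf (a * b) := by
  classical
  have := Fintype.ofFinite (IrrCharacter D.C)
  rw [← mem_pResidual_iff_regular D.hasNormalPComplement_C] at ha hb ⊢
  exact mul_mem ha hb

theorem exists_proj (c : D.C) : ∃ a : D.Q, IsPPart p (c : G) (a : G) := by
  obtain ⟨a, b, hab, hcomm, ⟨j, hj⟩, hb⟩ := exists_isPPart (Fact.out : p.Prime) (c : G)
  obtain ⟨x, hx, hx1⟩ : ∃ x ∈ D.Q, x ≠ 1 := by
    by_contra h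
    push Not at h
    exact D.ne_bot (D.Q.eq_bot_iff_forall.mpr h)
  have hcx : Commute x (c : G) := D.commute_Q hx c
  have hpart : IsPPart p (c : G) a := ⟨b, hab, hcomm, ⟨j, hj⟩, hb⟩
  have haC : a ∈ D.C := by
    refine (D.hC hx hx1 a).mpr ?_
    have h := isPPart_unique (Fact.out : p.Prime) (isPPart_conj hpart x)
      (by rwa [hcx.eq, mul_inv_cancel_right])
    exact (mul_inv_eq_iff_eq_mul.mp h : x * a = a * x).symm
  exact ⟨⟨a, D.mem_Q_of_pElement haC hj⟩, hpart⟩

/-- The `p`-part. -/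
noncomputable def proj : D.C →* D.Q :=
  MonoidHom.mk' (fun c => (D.exists_proj c).choose) fun a b => by
    obtain ⟨r, hr, hcr, -, hr'⟩ := (D.exists_proj a).choose_spec
    obtain ⟨s, hs, hcs, -, hs'⟩ := (D.exists_proj b).choose_spec
    generalize (D.exists_proj a).choose = u at hr hcr
    generalize (D.exists_proj b).choose = v at hs hcs
    have hrC : r ∈ D.C := by
      rw [show r = (u : G)⁻¹ * (a : G) by rw [← hr, inv_mul_cancel_left]]
      exact mul_mem (inv_mem (D.Q_le_C u.2)) a.2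
    have hsC : s ∈ D.C := by
      rw [show s = (v : G)⁻¹ * (b : G) by rw [← hs, inv_mul_cancel_left]]
      exact mul_mem (inv_mem (D.Q_le_C v.2)) b.2
    refine Subtype.ext (isPPart_unique (Fact.out : p.Prime) (D.exists_proj (a * b)).choose_spec
      ⟨r * s, ?_, ?_, ?_, ?_⟩)
    · calc (u : G) * v * (r * s) = (u : G) * ((v : G) * r) * s := by simp only [mul_assoc]
        _ = (u : G) * (r * v) * s := by rw [(D.commute_Q v.2 ⟨r, hrC⟩).eq]
        _ = ((a * b : D.C) : G) := by rw [Subgroup.coe_mul, ← hr, ← hs]; simp only [mul_assoc]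
    · exact Commute.mul_right
        (Commute.mul_left (D.commute_Q u.2 ⟨r, hrC⟩) (D.commute_Q v.2 ⟨r, hrC⟩))
        (Commute.mul_left (D.commute_Q u.2 ⟨s, hsC⟩) (D.commute_Q v.2 ⟨s, hsC⟩))
    · exact D.orderOf_mem (D.Q.mul_mem u.2 v.2)
    · have := D.regular_mul (a := ⟨r, hrC⟩) (b := ⟨s, hsC⟩)
        (by rwa [← Subgroup.orderOf_coe]) (by rwa [← Subgroup.orderOf_coe])
      rwa [← Subgroup.orderOf_coe] at this

theorem proj_spec (c : D.C) : IsPPart p (c : G) (D.proj c : G) := (D.exists_proj c).choose_spec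

theorem proj_eq {c : D.C} {a : D.Q} (h : IsPPart p (c : G) (a : G)) : D.proj c = a :=
  Subtype.ext (isPPart_unique (Fact.out : p.Prime) (D.proj_spec c) h)

theorem proj_coe (u : D.Q) : D.proj ⟨u, D.Q_le_C u.2⟩ = u :=
  D.proj_eq ⟨1, mul_one _, Commute.one_right _, D.orderOf_mem u.2,
    by simp [(Fact.out : p.Prime).ne_one]⟩

theorem proj_surjective : Function.Surjective D.proj := fun u => ⟨_, D.proj_coe u⟩

theorem proj_eq_one_iff {c : D.C} : D.proj c = 1 ↔ ¬ p ∣ orderOf c := by
  rw [← Subgroup.orderOf_coe]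
  constructor
  · intro h
    obtain ⟨b, hb, -, -, hb'⟩ := D.proj_spec c
    rw [h, OneMemClass.coe_one, one_mul] at hb
    rwa [hb] at hb'
  · exact fun h => D.proj_eq (isPPart_one_of_not_dvd h)

theorem conj_mem_C {n : G} (hn : n ∈ D.N) {c : G} (hc : c ∈ D.C) : n * c * n⁻¹ ∈ D.C := by
  refine Subgroup.mem_centralizer_iff.mpr fun u hu => ?_
  have hu' : n⁻¹ * u * n ∈ D.Q := by
    simpa using (Subgroup.mem_normalizer_iff.mp (inv_mem hn) u).mp hu
  have h := Subgroup.mem_centralizer_iff.mp hc _ hu'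
  calc u * (n * c * n⁻¹) = n * (n⁻¹ * u * n * c) * n⁻¹ := by group
    _ = n * (c * (n⁻¹ * u * n)) * n⁻¹ := by rw [h]
    _ = n * c * n⁻¹ * u := by group

theorem conj_mem_Q {n : G} (hn : n ∈ D.N) {u : G} (hu : u ∈ D.Q) : n * u * n⁻¹ ∈ D.Q :=
  (Subgroup.mem_normalizer_iff.mp hn u).mp hu

/-- Conjugation by the normaliser, on `P`. -/
def conjQ (n : D.N) : D.Q →* D.Q where
  toFun u := ⟨(n : G) * u * (n : G)⁻¹, D.conj_mem_Q n.2 u.2⟩
  map_one' := Subtype.ext (by simp)
  map_mul' a b := Subtype.ext (by simp [mul_assoc])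

/-- Conjugation by the normaliser, on `C`. -/
def conjC (n : D.N) : D.C →* D.C where
  toFun c := ⟨(n : G) * c * (n : G)⁻¹, D.conj_mem_C n.2 c.2⟩
  map_one' := Subtype.ext (by simp)
  map_mul' a b := Subtype.ext (by simp [mul_assoc])

theorem conjC_bijective (n : D.N) : Function.Bijective (D.conjC n) := by
  refine Function.bijective_iff_has_inverse.mpr ⟨D.conjC n⁻¹, fun c => Subtype.ext ?_, fun c => Subtype.ext ?_⟩ <;>
    simp [conjC, mul_assoc]

theorem conjQ_surjective (n : D.N) : Function.Surjective (D.conjQ n) :=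
  fun u => ⟨D.conjQ n⁻¹ u, Subtype.ext (by simp [conjQ, mul_assoc])⟩

theorem proj_conjC (n : D.N) (c : D.C) : D.proj (D.conjC n c) = D.conjQ n (D.proj c) :=
  D.proj_eq (isPPart_conj (D.proj_spec c) (n : G))

/-- A conjugate in `C` of a section element comes from the normaliser. -/
theorem mem_N_of_conj {x : G} {c : D.C} (hc : D.proj c ≠ 1) {d : D.C} (h : (d : G) = x * c * x⁻¹) :
    x ∈ D.N := by
  set u : G := ((D.proj c : D.Q) : G) with hu
  have hu1 : u ≠ 1 := fun e => hc (Subtype.ext e)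
  have hv : ((D.proj d : D.Q) : G) = x * u * x⁻¹ :=
    isPPart_unique (Fact.out : p.Prime) (h ▸ D.proj_spec d) (isPPart_conj (D.proj_spec c) x)
  have hv1 : x * u * x⁻¹ ≠ 1 := fun e => hu1 (conj_eq_one_iff.mp e)
  have hvQ : x * u * x⁻¹ ∈ D.Q := hv ▸ (D.proj d).2
  refine Subgroup.mem_normalizer_fintype (S := (D.Q : Set G)) fun w hw => ?_
  have hwC : x * w * x⁻¹ ∈ D.C := by
    refine (D.hC hvQ hv1 _).mpr ?_
    exact (D.commute_PP hw (D.proj c).2).map (MulAut.conj x).toMonoidHom
  obtain ⟨j, hj⟩ := D.orderOf_mem hw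
  exact D.mem_Q_of_pElement hwC (j := j) (by rw [orderOf_conj_eq, hj])

/-! ### Characters of `P` -/

theorem lin_mul (l : IrrCharacter D.Q) (a b : D.Q) :
    (l : D.Q → ℂ) (a * b) = (l : D.Q → ℂ) a * (l : D.Q → ℂ) b := by
  obtain ⟨f, hf⟩ := linearCharEquiv.surjective
    ⟨l, degree_one_of_comm (fun a b => Subtype.ext (D.commute_PP a.2 b.2).eq) l⟩
  have hl : ∀ x, (l : D.Q → ℂ) x = (f x : ℂ) := fun x =>
    (congrFun (congrArg (fun z => ((z.1 : IrrCharacter D.Q) : D.Q → ℂ)) hf) x).symm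
  rw [hl, hl, hl, map_mul, Units.val_mul]

theorem lin_one (l : IrrCharacter D.Q) : (l : D.Q → ℂ) 1 = 1 :=
  degree_one_of_comm (fun a b => Subtype.ext (D.commute_PP a.2 b.2).eq) l

/-- The action of the normaliser on the characters of `P`. -/
noncomputable def act (n : D.N) (l : IrrCharacter D.Q) : IrrCharacter D.Q :=
  ⟨fun u => (l : D.Q → ℂ) (D.conjQ n u), isIrrCharacter_comp_surjective l.2 _ (D.conjQ_surjective n)⟩

theorem act_apply (n : D.N) (l : IrrCharacter D.Q) (u : D.Q) :
    (D.act n l : D.Q → ℂ) u = (l : D.Q → ℂ) (D.conjQ n u) := rfl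

theorem act_mul (a b : D.N) (l : IrrCharacter D.Q) : D.act (a * b) l = D.act b (D.act a l) :=
  Subtype.ext (funext fun u => congrArg (l : D.Q → ℂ) (Subtype.ext (by simp [conjQ, mul_assoc])))

theorem act_one (l : IrrCharacter D.Q) : D.act 1 l = l :=
  Subtype.ext (funext fun u => congrArg (l : D.Q → ℂ) (Subtype.ext (by simp [conjQ])))

theorem act_triv (n : D.N) : D.act n (oneChar D.Q) = oneChar D.Q :=
  Subtype.ext (funext fun _ => rfl)

theorem act_injective (n : D.N) : Function.Injective (D.act n) := fun l l' h => by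
  rw [← D.act_one l, ← D.act_one l', ← mul_inv_cancel n, D.act_mul, D.act_mul, h]

theorem act_of_mem {n : D.N} (h : (n : G) ∈ D.C) (l : IrrCharacter D.Q) : D.act n l = l :=
  Subtype.ext (funext fun u => congrArg (l : D.Q → ℂ) (Subtype.ext (by
    show (n : G) * u * (n : G)⁻¹ = u
    rw [← (D.commute_Q u.2 ⟨n, h⟩).eq, mul_inv_cancel_right])))

/-- Freeness. -/
theorem mem_C_of_act_eq {n : D.N} {l : IrrCharacter D.Q} (hl : l ≠ oneChar D.Q) (h : D.act n l = l) :
    (n : G) ∈ D.C := by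
  by_contra hn
  let f : D.Q → D.Q := fun u => u⁻¹ * D.conjQ n u
  have hinj : Function.Injective f := by
    intro a b hab
    by_contra hne
    have h1 : D.conjQ n (a * b⁻¹) = a * b⁻¹ := by
      have e : D.conjQ n a = a * (b⁻¹ * D.conjQ n b) := by
        have hab' : a⁻¹ * D.conjQ n a = b⁻¹ * D.conjQ n b := hab
        rw [← hab', mul_inv_cancel_left]
      rw [map_mul, map_inv, e]
      simp [mul_assoc]
    have hw1 : ((a * b⁻¹ : D.Q) : G) ≠ 1 := fun e => hne (mul_inv_eq_one.mp (Subtype.ext e))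
    exact hn ((D.hC (a * b⁻¹ : D.Q).2 hw1 _).mpr
      (mul_inv_eq_iff_eq_mul.mp (congrArg Subtype.val h1)))
  refine hl (Subtype.ext (funext fun v => ?_))
  obtain ⟨u, hu⟩ := Finite.injective_iff_surjective.mp hinj v
  have h2 : (l : D.Q → ℂ) (D.conjQ n u) = (l : D.Q → ℂ) u := congrFun (congrArg Subtype.val h) u
  show (l : D.Q → ℂ) v = 1
  rw [← hu, D.lin_mul, h2, ← D.lin_mul, inv_mul_cancel, D.lin_one]

/-- The index of the centraliser in the normaliser. -/
noncomputable def e : ℕ := D.C.relIndex D.N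

theorem card_N : Nat.card D.N = D.e * Nat.card D.C := by
  rw [e, Subgroup.relIndex, ← Nat.card_congr (Subgroup.subgroupOfEquivOfLe D.C_le_N).toEquiv,
    Subgroup.index_mul_card]

theorem e_pos : 0 < D.e :=
  Nat.pos_of_ne_zero fun h => by
    have := D.card_N
    rw [h, zero_mul] at this
    exact Nat.card_pos.ne' this

theorem card_stab {l : IrrCharacter D.Q} (hl : l ≠ oneChar D.Q) :
    Nat.card {n : D.N // D.act n l = l} = Nat.card D.C :=
  Nat.card_congr
    { toFun := fun n => ⟨(n.1 : G), D.mem_C_of_act_eq hl n.2⟩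
      invFun := fun c => ⟨⟨c, D.C_le_N c.2⟩, D.act_of_mem c.2 l⟩
      left_inv := fun n => Subtype.ext (Subtype.ext rfl)
      right_inv := fun c => rfl }

open scoped Classical in
/-- The orbit of a character of `P`. -/
noncomputable def orbit (l : IrrCharacter D.Q) : Finset (IrrCharacter D.Q) :=
  (Finset.univ : Finset D.N).image fun n => D.act n l

theorem mem_orbit {l m : IrrCharacter D.Q} : m ∈ D.orbit l ↔ ∃ n, D.act n l = m := by
  classical
  simp [orbit]

theorem self_mem_orbit (l : IrrCharacter D.Q) : l ∈ D.orbit l := D.mem_orbit.mpr ⟨1, D.act_one l⟩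

theorem one_not_mem_orbit {l : IrrCharacter D.Q} (hl : l ≠ oneChar D.Q) :
    oneChar D.Q ∉ D.orbit l := fun h => by
  obtain ⟨n, hn⟩ := D.mem_orbit.mp h
  exact hl (D.act_injective n (hn.trans (D.act_triv n).symm))

theorem card_orbit {l : IrrCharacter D.Q} (hl : l ≠ oneChar D.Q) : (D.orbit l).card = D.e := by
  classical
  have h : (Finset.univ : Finset D.N).card = ∑ m ∈ D.orbit l, Nat.card D.C := by
    rw [Finset.card_eq_sum_card_fiberwise (f := fun n => D.act n l) (t := D.orbit l)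
      fun n _ => D.mem_orbit.mpr ⟨n, rfl⟩]
    refine Finset.sum_congr rfl fun m hm => ?_
    obtain ⟨k, rfl⟩ := D.mem_orbit.mp hm
    rw [← D.card_stab hl, Nat.card_eq_fintype_card, Fintype.card_subtype]
    refine Finset.card_equiv (Equiv.mulRight k⁻¹) fun n => ?_
    simp only [Finset.mem_filter, Finset.mem_univ, true_and, Equiv.coe_mulRight, D.act_mul]
    constructor
    · intro e
      rw [e, ← D.act_mul, mul_inv_cancel, D.act_one]
    · intro e
      refine D.act_injective k⁻¹ ?_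
      rw [e, ← D.act_mul, mul_inv_cancel, D.act_one]
  rw [Finset.card_univ, ← Nat.card_eq_fintype_card, D.card_N, Finset.sum_const, smul_eq_mul] at h
  exact (Nat.mul_right_cancel Nat.card_pos h).symm

/-- An invariant set of non-trivial characters has cardinality a multiple of `e`. -/
theorem e_dvd_card {S : Finset (IrrCharacter D.Q)} (h1 : oneChar D.Q ∉ S)
    (hS : ∀ n, ∀ l ∈ S, D.act n l ∈ S) : D.e ∣ S.card := by
  classical
  induction S using Finset.strongInduction with
  | H S ih =>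
    rcases S.eq_empty_or_nonempty with rfl | ⟨l, hl⟩
    · simp
    have hl1 : l ≠ oneChar D.Q := fun e => h1 (e ▸ hl)
    have hsub : D.orbit l ⊆ S := fun m hm => by
      obtain ⟨n, rfl⟩ := D.mem_orbit.mp hm
      exact hS n l hl
    have h := ih (S \ D.orbit l) (Finset.sdiff_ssubset hsub ⟨l, D.self_mem_orbit l⟩)
      (fun h => h1 (Finset.mem_sdiff.mp h).1) (fun n m hm => by
        obtain ⟨hm1, hm2⟩ := Finset.mem_sdiff.mp hm
        refine Finset.mem_sdiff.mpr ⟨hS n m hm1, fun h => hm2 ?_⟩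
        obtain ⟨k, hk⟩ := D.mem_orbit.mp h
        exact D.mem_orbit.mpr ⟨k * n⁻¹, by
          rw [D.act_mul, hk, ← D.act_mul, mul_inv_cancel, D.act_one]⟩)
    rw [← Finset.sdiff_union_of_subset hsub, Finset.card_union_of_disjoint Finset.sdiff_disjoint,
      D.card_orbit hl1]
    exact dvd_add h dvd_rfl

theorem card_irr : Nat.card (IrrCharacter D.Q) = Nat.card D.Q := by
  rw [card_irr_eq_card_conjClasses]
  refine (Nat.card_congr (Equiv.ofBijective ConjClasses.mk ⟨fun a b h => ?_, ConjClasses.mk_surjective⟩)).symm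
  obtain ⟨c, hc⟩ := isConj_iff.mp (ConjClasses.mk_eq_mk_iff_isConj.mp h)
  rw [← hc]
  exact Subtype.ext (by simp [(D.commute_PP c.2 a.2).eq])

end Uniform

end CfsgLib.Block.TI
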