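import Cfsg.Agent.Lib.Block.TI.Sections
import Cfsg.Agent.Lib.Block.Local

/-!
# Small faithful degrees force the Sylow subgroup to be normal

If all non-identity elements of the Sylow subgroup `P` of order `q` have the centraliser of `P` and
`G` has a faithful character of degree `x` with `x² + 1 < q`, then `P` is normal.
-/

open Finset
open scoped ComplexConjugate

set_option linter.unusedSectionVars false

namespace CfsgLib.Block.TI

open Cfsg CfsgLib.Char CfsgLib.Block

universe u

namespace Uniform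

variable {p : ℕ} [Fact p.Prime] {G : Type u} [Group G] [Fintype G] [DecidableEq G] (D : Uniform p G)
  [Fintype D.C] [Fintype D.Q] [Fintype D.N] [Fintype (IrrCharacter G)] [Fintype (IrrCharacter D.Q)]
  {M : Ideal AlgInt} [M.IsMaximal]

theorem eq_one_of_trivial (hred : ∀ H : Subgroup G, H.Normal → D.Q ≤ H → H = ⊤) {θ : IrrCharacter G}
    (h : ∀ u : D.Q, (θ : G → ℂ) (u : G) = (θ : G → ℂ) 1) : θ = oneChar G := by
  classical
  obtain ⟨n, ρ, hρ, hθ⟩ := θ.2
  have hker : ρ.ker = ⊤ := by
    refine hred _ inferInstance fun u hu => ?_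
    rw [MonoidHom.mem_ker, Module.End.one_eq_id, ← char_eq_degree_iff, ← Representation.char_one ρ, hθ]
    exact h ⟨u, hu⟩
  have hc : ∀ g, (θ : G → ℂ) g = (θ : G → ℂ) 1 := fun g => by
    have hg : g ∈ ρ.ker := hker ▸ Subgroup.mem_top g
    rw [← hθ, Representation.char_one, char_eq_degree_iff, ← Module.End.one_eq_id]
    exact hg
  have hd := charDegree_eq θ
  have h1 := classInner_irr_self θ
  rw [classInner, Finset.sum_congr rfl fun g _ => by rw [hc g, hd.1], Finset.sum_const,
    Finset.card_univ, nsmul_eq_mul, ← Nat.card_eq_fintype_card, ← mul_assoc,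
    inv_mul_cancel₀ (Nat.cast_ne_zero.mpr Nat.card_pos.ne'), one_mul, map_natCast] at h1
  have h2 : charDegree (θ : G → ℂ) * charDegree (θ : G → ℂ) = 1 := by exact_mod_cast h1
  refine Subtype.ext (funext fun g => ?_)
  rw [hc g, hd.1, Nat.eq_one_of_mul_eq_one_right h2]
  simp [oneChar]

theorem sum_split (f : IrrCharacter D.Q → ℕ) [DecidableEq (IrrCharacter D.Q)] :
    ∑ l, f l = f (oneChar D.Q) + ∑ l ∈ Finset.univ.erase (oneChar D.Q), f l :=
  (Finset.add_sum_erase _ _ (Finset.mem_univ _)).symm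

/-- The support away from the trivial character. -/
noncomputable def supp (θ : IrrCharacter G) : Finset (IrrCharacter D.Q) := by
  classical
  exact Finset.univ.filter fun l => l ≠ oneChar D.Q ∧ D.mult θ l ≠ 0

theorem mem_supp {θ : IrrCharacter G} {l : IrrCharacter D.Q} :
    l ∈ D.supp θ ↔ l ≠ oneChar D.Q ∧ D.mult θ l ≠ 0 := by
  classical
  simp [supp]

theorem e_dvd_supp (θ : IrrCharacter G) : D.e ∣ (D.supp θ).card := by
  refine D.e_dvd_card (fun h => (D.mem_supp.mp h).1 rfl) fun n l hl => ?_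
  obtain ⟨h1, h2⟩ := D.mem_supp.mp hl
  exact D.mem_supp.mpr ⟨fun e => h1 (D.act_injective n (e.trans (D.act_triv n).symm)),
    by rwa [D.mult_act]⟩

theorem card_univ_irr : Fintype.card (IrrCharacter D.Q) = Nat.card D.Q := by
  rw [← Nat.card_eq_fintype_card, D.card_irr]

/-- A character of small degree with non-constant multiplicities. -/
theorem shape (hM : IsPModular p M) {θ : IrrCharacter G}
    (hd : charDegree (θ : G → ℂ) + 3 ≤ Nat.card D.Q)
    (hne : ∃ a b, D.mult θ a ≠ D.mult θ b) :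
    θ ∈ principalBlock M G ∧
      (∀ l, l ≠ oneChar D.Q → D.mult θ l ≤ 1) ∧
      D.mult θ (oneChar D.Q) + (D.supp θ).card = charDegree (θ : G → ℂ) ∧
      D.mult θ (oneChar D.Q) ^ 2 + (D.supp θ).card = ∑ l, D.mult θ l ^ 2 ∧
      (∑ l, D.mult θ l = charDegree (θ : G → ℂ)) ∧
      (D.supp θ).card + D.e + 1 ≤ Nat.card D.Q ∧
      D.e ∣ Nat.card D.Q - 1 := by
  classical
  have hθ : θ ∈ principalBlock M G := by
    by_contra h
    obtain ⟨a, b, hab⟩ := hne
    exact hab ((D.mult_eq_of_not_principal hM h a).trans (D.mult_eq_of_not_principal hM h b).symm)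
  have hsum := D.sum_mult_eq_deg hM hθ (by omega)
  obtain ⟨μ, hμ1, hμ0⟩ : ∃ μ, μ ≠ oneChar D.Q ∧ D.mult θ μ = 0 := by
    by_contra hall
    push Not at hall
    have h : (Finset.univ.erase (oneChar D.Q)).card • 1 ≤ ∑ l, D.mult θ l :=
      (Finset.card_nsmul_le_sum _ _ 1 fun l hl => Nat.one_le_iff_ne_zero.mpr
        (hall l (Finset.mem_erase.mp hl).1)).trans (by rw [D.sum_split]; exact Nat.le_add_left _ _)
    rw [Finset.card_erase_of_mem (Finset.mem_univ _), Finset.card_univ, D.card_univ_irr, smul_eq_mul,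
      mul_one, hsum] at h
    omega
  have hle : ∀ l, l ≠ oneChar D.Q → D.mult θ l ≤ 1 := by
    intro l hl
    by_contra hlt
    push Not at hlt
    have horb : μ ∉ D.orbit l := fun h => by
      obtain ⟨n, rfl⟩ := D.mem_orbit.mp h
      rw [D.mult_act] at hμ0
      omega
    have h := D.sum_sq_diff_two hl hμ1 horb
    have h1 : ((D.mult θ l : ℤ) - D.mult θ μ) ^ 2 ≤ 2 :=
      h ▸ Finset.single_le_sum (f := fun χ => ((D.mult χ l : ℤ) - D.mult χ μ) ^ 2)
        (fun χ _ => sq_nonneg _) (Finset.mem_univ θ)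
    rw [hμ0, Nat.cast_zero, sub_zero] at h1
    have h2 : (2 : ℤ) ≤ D.mult θ l := by exact_mod_cast hlt
    nlinarith
  have hval : ∀ l ∈ Finset.univ.erase (oneChar D.Q),
      D.mult θ l = if l ∈ D.supp θ then 1 else 0 := fun l hl => by
    have h1 := (Finset.mem_erase.mp hl).1
    have h2 := hle l h1
    by_cases h0 : D.mult θ l = 0
    · rw [h0, if_neg fun h => (D.mem_supp.mp h).2 h0]
    · rw [if_pos (D.mem_supp.mpr ⟨h1, h0⟩)]
      omega
  have hsub : Finset.univ.erase (oneChar D.Q) ∩ D.supp θ = D.supp θ :=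
    Finset.inter_eq_right.mpr fun l hl => Finset.mem_erase.mpr ⟨(D.mem_supp.mp hl).1, Finset.mem_univ _⟩
  have hs1 : D.mult θ (oneChar D.Q) + (D.supp θ).card = ∑ l, D.mult θ l := by
    rw [D.sum_split, Finset.sum_congr rfl hval, Finset.sum_ite_mem, hsub, Finset.sum_const,
      smul_eq_mul, mul_one]
  have hs2 : D.mult θ (oneChar D.Q) ^ 2 + (D.supp θ).card = ∑ l, D.mult θ l ^ 2 := by
    rw [D.sum_split, Finset.sum_congr rfl (g := fun l => if l ∈ D.supp θ then 1 else 0) fun l hl => by
      rw [hval l hl]; split_ifs <;> norm_num, Finset.sum_ite_mem, hsub, Finset.sum_const,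
      smul_eq_mul, mul_one]
  set T := (Finset.univ.erase (oneChar D.Q)).filter fun l => D.mult θ l = 0 with hT
  have hTe : D.e ∣ T.card := by
    refine D.e_dvd_card (fun h => (Finset.mem_erase.mp (Finset.mem_filter.mp h).1).1 rfl) fun n l hl => ?_
    obtain ⟨h1, h2⟩ := Finset.mem_filter.mp hl
    refine Finset.mem_filter.mpr ⟨Finset.mem_erase.mpr ⟨fun e => (Finset.mem_erase.mp h1).1
      (D.act_injective n (e.trans (D.act_triv n).symm)), Finset.mem_univ _⟩, by rwa [D.mult_act]⟩
  have hTμ : 0 < T.card := Finset.card_pos.mpr ⟨μ, Finset.mem_filter.mpr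
    ⟨Finset.mem_erase.mpr ⟨hμ1, Finset.mem_univ _⟩, hμ0⟩⟩
  have hST : (D.supp θ).card + T.card + 1 = Nat.card D.Q := by
    have h := Finset.card_filter_add_card_filter_not (s := Finset.univ.erase (oneChar D.Q))
      fun l => D.mult θ l = 0
    rw [← hT, Finset.card_erase_of_mem (Finset.mem_univ _), Finset.card_univ, D.card_univ_irr,
      show (Finset.univ.erase (oneChar D.Q)).filter (fun l => ¬ D.mult θ l = 0) = D.supp θ from
        Finset.ext fun l => by simp [mem_supp]] at h
    have := Nat.card_pos (α := D.Q)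
    omega
  refine ⟨hθ, hle, hs1.trans hsum, hs2, hsum, ?_, ?_⟩
  · have := Nat.le_of_dvd hTμ hTe
    omega
  · rw [← hST, Nat.add_sub_cancel]
    exact dvd_add (D.e_dvd_supp θ) hTe

/-- The case of one orbit: all the orbits would occur and the degrees would not be orthogonal. -/
theorem no_single_orbit (hM : IsPModular p M) {θ : IrrCharacter G} {a : IrrCharacter D.Q}
    (ha : a ≠ oneChar D.Q) (hsupp : D.supp θ = D.orbit a)
    (hd : charDegree (θ : G → ℂ) = D.e + 1) (hq : Nat.card D.Q = D.e * D.e + D.e + 1)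
    (he : 2 ≤ D.e) (hma : D.mult θ a = 1) : False := by
  classical
  let Θ : Finset (IrrCharacter G) := Finset.univ.filter fun χ =>
    charDegree (χ : G → ℂ) = D.e + 1 ∧ D.mult χ (oneChar D.Q) = 1 ∧ D.mult χ a = 0 ∧
      (D.supp χ).card = D.e
  have hcover : Finset.univ.erase (oneChar D.Q) \ D.orbit a ⊆ Θ.biUnion D.supp := by
    intro μ hμ
    obtain ⟨hμ1, hμ2⟩ := Finset.mem_sdiff.mp hμ
    have hμ1' := (Finset.mem_erase.mp hμ1).1
    have hθμ : D.mult θ μ = 0 := by
      by_contra h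
      exact hμ2 (hsupp ▸ D.mem_supp.mpr ⟨hμ1', h⟩)
    have h2 := D.sum_sq_diff_two ha hμ1' hμ2
    have h1 := D.sum_deg_mul_diff a μ
    rw [← Finset.add_sum_erase _ _ (Finset.mem_univ θ), hma, hθμ, hd] at h1
    rw [← Finset.add_sum_erase _ _ (Finset.mem_univ θ), hma, hθμ] at h2
    obtain ⟨θ', hθ', hneg⟩ : ∃ θ' ∈ Finset.univ.erase θ, (D.mult θ' a : ℤ) - D.mult θ' μ < 0 := by
      by_contra hall
      push Not at hall
      have := Finset.sum_nonneg (s := Finset.univ.erase θ) fun χ hχ =>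
        mul_nonneg (Int.natCast_nonneg (charDegree (χ : G → ℂ))) (hall χ hχ)
      omega
    rw [← Finset.add_sum_erase _ _ hθ'] at h1 h2
    have hnn := Finset.sum_nonneg (s := (Finset.univ.erase θ).erase θ')
      fun χ _ => sq_nonneg ((D.mult χ a : ℤ) - D.mult χ μ)
    have hdiff : (D.mult θ' a : ℤ) - D.mult θ' μ = -1 := by
      push_cast at h2
      nlinarith
    rw [hdiff] at h1 h2
    have hrest0 : ∑ χ ∈ (Finset.univ.erase θ).erase θ', ((D.mult χ a : ℤ) - D.mult χ μ) ^ 2 = 0 := by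
      push_cast at h2
      linarith
    have hrest := (Finset.sum_eq_zero_iff_of_nonneg fun χ _ => sq_nonneg _).mp hrest0
    rw [Finset.sum_eq_zero (s := (Finset.univ.erase θ).erase θ') fun χ hχ => by
      rw [pow_eq_zero_iff two_ne_zero |>.mp (hrest χ hχ), mul_zero]] at h1
    have hdeg : charDegree (θ' : G → ℂ) = D.e + 1 := by
      push_cast at h1
      omega
    obtain ⟨hp', hle, hs1, -, -, -, -⟩ := D.shape hM (θ := θ') (by
        rw [hdeg, hq]
        have : 4 ≤ D.e * D.e := Nat.mul_le_mul he he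
        omega) ⟨a, μ, fun e => by omega⟩
    have h01 := hle a ha
    have h02 := hle μ hμ1'
    have hμmem : μ ∈ D.supp θ' := D.mem_supp.mpr ⟨hμ1', by omega⟩
    obtain ⟨k, hk⟩ := D.e_dvd_supp θ'
    have hk1 : k = 1 := by
      have hpos : 0 < (D.supp θ').card := Finset.card_pos.mpr ⟨μ, hμmem⟩
      rcases k with _ | _ | k
      · rw [hk, mul_zero] at hpos; exact absurd hpos (lt_irrefl 0)
      · rfl
      · have : D.e * 2 ≤ (D.supp θ').card := by rw [hk]; exact Nat.mul_le_mul_left _ (by omega)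
        omega
    rw [hk1, mul_one] at hk
    refine Finset.mem_biUnion.mpr ⟨θ', Finset.mem_filter.mpr
      ⟨Finset.mem_univ _, hdeg, ?_, ?_, hk⟩, hμmem⟩ <;> omega
  have hcount : D.e * D.e ≤ Θ.card * D.e := by
    have h := (Finset.card_le_card hcover).trans (Finset.card_biUnion_le_card_mul _ _ D.e
      fun χ hχ => (Finset.mem_filter.mp hχ).2.2.2.2.le)
    rw [Finset.card_sdiff_of_subset (fun l hl => Finset.mem_erase.mpr
        ⟨fun e => D.one_not_mem_orbit ha (by subst e; exact hl), Finset.mem_univ _⟩),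
      Finset.card_erase_of_mem (Finset.mem_univ _), Finset.card_univ, D.card_univ_irr, D.card_orbit ha,
      hq] at h
    omega
  have hΘ : D.e ≤ Θ.card := Nat.le_of_mul_le_mul_right hcount D.e_pos
  have h1 : oneChar G ∉ Θ := fun h => by
    have hd1 := (Finset.mem_filter.mp h).2.1
    have : charDegree ((oneChar G : IrrCharacter G) : G → ℂ) = 1 := by simp [charDegree, oneChar]
    omega
  have hdval : ∀ χ ∈ Θ, (D.mult χ a : ℤ) - D.mult χ (oneChar D.Q) = -1 := fun χ hχ => by
    obtain ⟨-, -, h2, h3, -⟩ := Finset.mem_filter.mp hχ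
    omega
  have hsq := D.sum_sq_diff_one ha
  have hone : (D.mult (oneChar G) a : ℤ) - D.mult (oneChar G) (oneChar D.Q) = -1 := by
    rw [D.mult_one_char, D.mult_one_char, if_neg ha, if_pos rfl]
    norm_num
  rw [← Finset.sum_sdiff (Finset.subset_univ (insert (oneChar G) Θ)), Finset.sum_insert h1,
    Finset.sum_congr (s₁ := Θ) rfl fun χ hχ => by rw [hdval χ hχ], hone, Finset.sum_const, nsmul_eq_mul] at hsq
  have hnn := Finset.sum_nonneg (s := Finset.univ \ insert (oneChar G) Θ)
    fun χ _ => sq_nonneg ((D.mult χ a : ℤ) - D.mult χ (oneChar D.Q))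
  have hΘ' : (D.e : ℤ) ≤ (Θ.card : ℤ) := by exact_mod_cast hΘ
  have hrest0 : ∑ χ ∈ Finset.univ \ insert (oneChar G) Θ,
      ((D.mult χ a : ℤ) - D.mult χ (oneChar D.Q)) ^ 2 = 0 := by
    linarith
  have hrest := (Finset.sum_eq_zero_iff_of_nonneg fun χ _ => sq_nonneg _).mp hrest0
  have hdeg := D.sum_deg_mul_diff a (oneChar D.Q)
  rw [← Finset.sum_sdiff (Finset.subset_univ (insert (oneChar G) Θ)), Finset.sum_insert h1, hone,
    Finset.sum_eq_zero (s := Finset.univ \ insert (oneChar G) Θ) fun χ hχ => by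
      rw [pow_eq_zero_iff two_ne_zero |>.mp (hrest χ hχ), mul_zero],
    Finset.sum_congr rfl fun χ hχ => by rw [hdval χ hχ, (Finset.mem_filter.mp hχ).2.1],
    Finset.sum_const, nsmul_eq_mul] at hdeg
  have : charDegree ((oneChar G : IrrCharacter G) : G → ℂ) = 1 := by simp [charDegree, oneChar]
  rw [this] at hdeg
  push_cast at hdeg
  nlinarith

/-- The constituents with a trivial part. -/
theorem cases_of_mult_one (hM : IsPModular p M) (hred : ∀ H : Subgroup G, H.Normal → D.Q ≤ H → H = ⊤)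
    {θ : IrrCharacter G} (hθ : θ ≠ oneChar G) (hd : charDegree (θ : G → ℂ) + 3 ≤ Nat.card D.Q)
    (he : D.e * D.e + 2 ≤ Nat.card D.Q) (hm : D.mult θ (oneChar D.Q) ≠ 0) :
    charDegree (θ : G → ℂ) + D.e = Nat.card D.Q ∧ D.mult θ (oneChar D.Q) = 1 ∧
      ∑ l, D.mult θ l = charDegree (θ : G → ℂ) := by
  classical
  have hne : ∃ a b, D.mult θ a ≠ D.mult θ b := by
    by_contra hc
    push Not at hc
    have h := D.sum_mult_le θ
    rw [Finset.sum_congr rfl fun l _ => hc l (oneChar D.Q), Finset.sum_const, Finset.card_univ,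
      D.card_univ_irr, smul_eq_mul] at h
    have := Nat.le_mul_of_pos_right (Nat.card D.Q) (Nat.pos_of_ne_zero hm)
    omega
  obtain ⟨hp, hle, hs1, hs2, hsum, hSq, hdvd⟩ := D.shape hM hd hne
  have hbound := D.norm_bound hM hp
  rw [← hs2, hsum, ← hs1] at hbound
  have hS0 : (D.supp θ).card ≠ 0 := by
    intro h0
    refine hθ (D.eq_one_of_trivial hred fun u => ?_)
    by_cases hu : u = 1
    · simp [hu]
    have hall : ∀ l ∈ Finset.univ, l ≠ oneChar D.Q → D.mult θ l = 0 := fun l _ hl => by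
      by_contra h
      rw [Finset.card_eq_zero] at h0
      exact absurd (D.mem_supp.mpr ⟨hl, h⟩) (by simp [h0])
    rw [← D.sec_of_principal hM hp hu, D.sec_eq, (charDegree_eq θ).1, ← hsum, Nat.cast_sum]
    refine Finset.sum_congr rfl fun l hl => ?_
    rw [mult_spec]
    by_cases hl1 : l = oneChar D.Q
    · rw [hl1, show (oneChar D.Q : D.Q → ℂ) u = 1 from rfl, mul_one]
    · rw [hall l hl hl1, Nat.cast_zero, zero_mul]
  obtain ⟨k, hk⟩ := D.e_dvd_supp θ
  obtain ⟨t, ht⟩ := hdvd
  have hqt : Nat.card D.Q = D.e * t + 1 := by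
    have := Nat.card_pos (α := D.Q)
    omega
  have hepos := D.e_pos
  have hk1 : 1 ≤ k := Nat.one_le_iff_ne_zero.mpr fun h => hS0 (by rw [hk, h, mul_zero])
  have hkt : k + 1 ≤ t := by
    by_contra hlt
    push Not at hlt
    have := Nat.mul_le_mul_left D.e (Nat.lt_succ_iff.mp hlt)
    omega
  set m := D.mult θ (oneChar D.Q)
  set q := Nat.card D.Q
  set e := D.e
  set S := (D.supp θ).card with hSdef
  have hb : (q : ℤ) * ((m : ℤ) ^ 2 + S) < (e : ℤ) * q + ((m : ℤ) + S) ^ 2 := by exact_mod_cast hbound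
  have hm1 : (1 : ℤ) ≤ m := by exact_mod_cast Nat.pos_of_ne_zero hm
  have hSq' : (S : ℤ) + e + 1 ≤ q := by exact_mod_cast hSq
  have he' : (e : ℤ) * e + 2 ≤ q := by exact_mod_cast he
  have heZ : (1 : ℤ) ≤ e := by exact_mod_cast hepos
  rcases Nat.lt_or_ge k 2 with hk2 | hk2
  · -- one orbit
    exfalso
    have hSe : S = e := by
      have : k = 1 := by omega
      rw [hk, this, mul_one]
    rw [hSe] at hb hs1
    have hm_eq : m = 1 := by
      by_contra h
      have h2 : (2 : ℤ) ≤ m := by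
        have : 2 ≤ m := by omega
        exact_mod_cast this
      nlinarith [sq_nonneg ((m : ℤ) - e), mul_nonneg (by nlinarith : (0 : ℤ) ≤ (m : ℤ) ^ 2 - 2)
        (sq_nonneg (e : ℤ)), mul_le_mul_of_nonneg_left he' (sq_nonneg (m : ℤ))]
    rw [hm_eq] at hb
    have hlt : q < (e + 1) * (e + 1) := by
      have : (q : ℤ) < ((e : ℤ) + 1) * ((e : ℤ) + 1) := by push_cast at hb; nlinarith
      exact_mod_cast this
    have htlo : e < t := by
      by_contra h
      push Not at h
      have := Nat.mul_le_mul_left e h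
      omega
    have hthi : t < e + 2 := by
      by_contra h
      push Not at h
      have := Nat.mul_le_mul_left e h
      nlinarith
    have hte : t = e + 1 := by omega
    have hq' : q = e * e + e + 1 := by rw [hqt, hte]; ring
    have he2 : 2 ≤ e := by
      by_contra h
      have : e = 1 := by omega
      rw [this] at hq'
      omega
    obtain ⟨a, ha⟩ := Finset.card_pos.mp (show 0 < (D.supp θ).card by rw [← hSdef, hSe]; exact hepos)
    obtain ⟨ha1, ha0⟩ := D.mem_supp.mp ha
    refine D.no_single_orbit hM (θ := θ) ha1 ?_ (by omega) hq' he2 (by have := hle a ha1; omega)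
    refine (Finset.eq_of_subset_of_card_le (fun l hl => ?_) (by rw [D.card_orbit ha1, ← hSdef, hSe])).symm
    obtain ⟨n, rfl⟩ := D.mem_orbit.mp hl
    exact D.mem_supp.mpr ⟨fun h => ha1 (D.act_injective n (h.trans (D.act_triv n).symm)),
      by rwa [D.mult_act]⟩
  · have hm2 : (m : ℤ) = 1 ∨ (2 : ℤ) ≤ m := by omega
    have hS2 : 2 * (e : ℤ) ≤ S := by
      have : 2 * e ≤ S := by rw [hk, mul_comm 2]; exact Nat.mul_le_mul_left e hk2
      exact_mod_cast this
    have hf1 : ((m : ℤ) + S) ^ 2 - (q : ℤ) * ((m : ℤ) ^ 2 + S - e) ≤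
        (1 + (S : ℤ)) ^ 2 - (q : ℤ) * (1 + S - e) := by
      nlinarith [mul_nonneg (by linarith : (0 : ℤ) ≤ (m : ℤ) - 1)
        (by nlinarith : (0 : ℤ) ≤ (q : ℤ) * ((m : ℤ) + 1) - ((m : ℤ) + 1) - 2 * S)]
    rcases Nat.lt_or_ge (k + 1) t with hkt' | hkt'
    · exfalso
      have hS3 : (S : ℤ) + 2 * e + 1 ≤ q := by
        have : S + 2 * e + 1 ≤ q := by
          have := Nat.mul_le_mul_left e (show k + 2 ≤ t from hkt')
          rw [mul_add] at this
          omega
        exact_mod_cast this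
      nlinarith [mul_nonneg (sub_nonneg.mpr hS2) (sub_nonneg.mpr hS3)]
    · have hSq2 : S + e + 1 = q := by
        have : k + 1 = t := le_antisymm hkt hkt'
        rw [hqt, hk, ← this]
        ring
      rcases hm2 with h1 | h2
      · have : m = 1 := by exact_mod_cast h1
        refine ⟨?_, this, hsum⟩
        omega
      · exfalso
        have hS' : (S : ℤ) = (q : ℤ) - e - 1 := by rw [← hSq2]; push_cast; ring
        nlinarith [mul_nonneg (by linarith : (0 : ℤ) ≤ (m : ℤ) - 2)
          (by nlinarith : (0 : ℤ) ≤ (q : ℤ) * ((m : ℤ) + 2) - ((m : ℤ) + 2) - 2 * S)]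

/-- A section norm for an irreducible character of `C`. -/
theorem fib_norm (ξ : IrrCharacter D.C) :
    (Nat.card D.Q : ℝ) * ∑ c ∈ D.fib 1, ‖(ξ : D.C → ℂ) c‖ ^ 2 = Nat.card D.C := by
  have hn := classInner_self (ξ : D.C → ℂ)
  rw [classInner_irr_self, eq_comm, Complex.ofReal_eq_one,
    inv_mul_eq_iff_eq_mul₀ (Nat.cast_ne_zero.mpr Nat.card_pos.ne'), mul_one] at hn
  conv_rhs => rw [← hn, D.sum_by_fib]
  rw [Finset.sum_congr rfl (s₂ := Finset.univ) (g := fun _ => ∑ c ∈ D.fib 1, ‖(ξ : D.C → ℂ) c‖ ^ 2) fun u _ => ?_,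
    Finset.sum_const, Finset.card_univ, nsmul_eq_mul, ← Nat.card_eq_fintype_card]
  rw [D.sum_fib_eq]
  have hu : (⟨u, D.Q_le_C u.2⟩ : D.C) ∈ Subgroup.center D.C :=
    Subgroup.mem_center_iff.mpr fun c => Subtype.ext (D.commute_Q u.2 c).eq.symm
  obtain ⟨ω, hω, hy⟩ := Cyclic.irr_central_mul hu (pow_orderOf_eq_one _) ξ
  refine Finset.sum_congr rfl fun c _ => ?_
  rw [hy, norm_mul, norm_eq_one_of_pow_eq_one' (orderOf_pos _).ne' hω, one_mul]

/-- Every element of `P` is a scalar in an irreducible representation of small degree. -/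
theorem scalar_of_small (hM : IsPModular p M) (hred : ∀ H : Subgroup G, H.Normal → D.Q ≤ H → H = ⊤)
    (η : IrrCharacter G) (hd : charDegree (η : G → ℂ) ^ 2 + 2 ≤ Nat.card D.Q) {u : G} (hu : u ∈ D.Q) :
    ‖(η : G → ℂ) u‖ = charDegree (η : G → ℂ) := by
  classical
  have := Fintype.ofFinite (IrrCharacter D.C)
  set d := charDegree (η : G → ℂ) with hdd
  have hdc : (η : G → ℂ) 1 = (d : ℂ) := (charDegree_eq η).1
  -- restriction to `P`
  choose kk hkk using fun l : IrrCharacter D.Q => classInner_isCharacter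
    (isCharacter_comp (isCharacter_irr η) D.Q.subtype) (isCharacter_irr l)
  have hexp : ∀ v : D.Q, (η : G → ℂ) (v : G) = ∑ l, (kk l : ℂ) * (l : D.Q → ℂ) v := fun v => by
    have h := congrFun (classFun_expand (D.isClassFunction_Q fun v : D.Q => (η : G → ℂ) (v : G))) v
    rw [Finset.sum_apply] at h
    rw [h]
    exact Finset.sum_congr rfl fun l _ => by rw [Pi.smul_apply, smul_eq_mul, ← hkk l]; rfl
  have hsumk : ∑ l, kk l = d := by
    have h := hexp 1
    simp only [D.lin_one, mul_one, OneMemClass.coe_one, hdc] at h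
    exact_mod_cast h.symm
  by_cases htriv : ∀ l, l ≠ oneChar D.Q → kk l = 0
  · rw [show u = ((⟨u, hu⟩ : D.Q) : G) from rfl, hexp, Finset.sum_eq_single (oneChar D.Q)
      (fun l _ hl => by rw [htriv l hl, Nat.cast_zero, zero_mul])
      (fun h => absurd (Finset.mem_univ _) h), show (oneChar D.Q : D.Q → ℂ) _ = 1 from rfl, mul_one,
      Complex.norm_natCast, ← hsumk, Finset.sum_eq_single (oneChar D.Q) (fun l _ hl => htriv l hl)
      (fun h => absurd (Finset.mem_univ _) h)]
  push Not at htriv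
  obtain ⟨a, ha, hka⟩ := htriv
  have hinv : ∀ n, kk (D.act n a) = kk a := by
    intro n
    have h : ((kk (D.act n a) : ℕ) : ℂ) = (kk a : ℂ) := by
      rw [← hkk, ← hkk]
      simp only [classInner]
      congr 1
      refine Fintype.sum_bijective (D.conjQ n) (Finite.surjective_iff_bijective.mp (D.conjQ_surjective n))
        _ _ fun v => ?_
      rw [act_apply]
      show _ = (η : G → ℂ) ((n : G) * v * (n : G)⁻¹) * _
      rw [isClassFunction_irr η]
      rfl
    exact_mod_cast h
  have hed : D.e ≤ d := by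
    rw [← D.card_orbit ha, ← hsumk, Finset.card_eq_sum_ones]
    refine (Finset.sum_le_sum fun l hl => ?_).trans (Finset.sum_le_sum_of_subset (Finset.subset_univ _))
    obtain ⟨n, rfl⟩ := D.mem_orbit.mp hl
    rw [hinv]
    exact Nat.one_le_iff_ne_zero.mpr hka
  have he : D.e * D.e + 2 ≤ Nat.card D.Q := by
    have := Nat.mul_le_mul hed hed
    rw [← sq d] at this
    omega
  -- `η η̄`
  set Φ : G → ℂ := (η : G → ℂ) * fun g => conj ((η : G → ℂ) g) with hΦdef
  have hΦ : IsCharacter G Φ := isCharacter_mul (isCharacter_irr η) (isCharacter_conj (isCharacter_irr η))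
  choose nn hnn using fun θ : IrrCharacter G => classInner_isCharacter hΦ (isCharacter_irr θ)
  have hΦexp : ∀ g, Φ g = ∑ θ, (nn θ : ℂ) * (θ : G → ℂ) g := fun g => by
    have h := congrFun (classFun_expand (isClassFunction_of_isCharacter hΦ)) g
    rw [Finset.sum_apply] at h
    rw [h]
    exact Finset.sum_congr rfl fun θ _ => by rw [Pi.smul_apply, smul_eq_mul, hnn θ]
  have hn1 : nn (oneChar G) = 1 := by
    have h := classInner_irr_self η
    have e : classInner Φ ((oneChar G : IrrCharacter G) : G → ℂ) = classInner (η : G → ℂ) (η : G → ℂ) := by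
      simp [classInner, hΦdef, oneChar]
    rw [hnn, h] at e
    exact_mod_cast e
  have h1deg : charDegree ((oneChar G : IrrCharacter G) : G → ℂ) = 1 := by simp [charDegree, oneChar]
  have hdeg : ∑ θ, nn θ * charDegree (θ : G → ℂ) = d ^ 2 := by
    have h := hΦexp 1
    simp only [hΦdef, Pi.mul_apply, hdc, map_natCast] at h
    have : ((∑ θ, nn θ * charDegree (θ : G → ℂ) : ℕ) : ℂ) = ((d ^ 2 : ℕ) : ℂ) := by
      push_cast
      rw [sq, h]
      exact Finset.sum_congr rfl fun θ _ => by rw [(charDegree_eq θ).1]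
    exact_mod_cast this
  rw [← Finset.add_sum_erase _ _ (Finset.mem_univ (oneChar G)), hn1, h1deg] at hdeg
  -- the multiplicities in `C`
  have hmc : ∀ l, D.mc Φ l = ∑ θ, (nn θ : ℂ) * (D.mult θ l : ℂ) := fun l => by
    have e : (fun c : D.C => Φ c) = ∑ θ, (nn θ : ℂ) • fun c : D.C => (θ : G → ℂ) c :=
      funext fun c => by simp [hΦexp]
    rw [mc, e, classInner_sum_left]
    exact Finset.sum_congr rfl fun θ _ => by rw [classInner_smul_left, ← mult_spec]; rfl
  set r : D.C → ℂ := fun c => (η : G → ℂ) c with hr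
  have hrc : IsCharacter D.C r := isCharacter_comp (isCharacter_irr η) D.C.subtype
  choose cc hcc using fun ξ : IrrCharacter D.C => classInner_isCharacter hrc (isCharacter_irr ξ)
  have hrexp : ∀ c, r c = ∑ ξ, (cc ξ : ℂ) * (ξ : D.C → ℂ) c := fun c => by
    have h := congrFun (classFun_expand (isClassFunction_of_isCharacter hrc)) c
    rw [Finset.sum_apply] at h
    rw [h]
    exact Finset.sum_congr rfl fun ξ _ => by rw [Pi.smul_apply, smul_eq_mul, hcc ξ]
  have hrnorm : D.mc Φ (oneChar D.Q) = ((∑ ξ, cc ξ ^ 2 : ℕ) : ℂ) := by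
    have e : D.mc Φ (oneChar D.Q) = classInner r r := by
      simp [mc, classInner, hΦdef, hr, lam_apply, oneChar]
    rw [e, classInner_expand (isClassFunction_of_isCharacter hrc), Nat.cast_sum]
    exact Finset.sum_congr rfl fun ξ _ => by rw [hcc, map_natCast]; push_cast; ring
  have hm1 : D.mult (oneChar G) (oneChar D.Q) = 1 := by rw [D.mult_one_char, if_pos rfl]
  by_cases hall : ∀ θ, θ ≠ oneChar G → nn θ ≠ 0 → D.mult θ (oneChar D.Q) = 0
  · -- the restriction to `C` is irreducible
    have h := hmc (oneChar D.Q)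
    rw [Finset.sum_eq_single (oneChar G) (fun θ _ hθ => by
      by_cases h0 : nn θ = 0
      · rw [h0, Nat.cast_zero, zero_mul]
      · rw [hall θ hθ h0, Nat.cast_zero, mul_zero]) (fun h => absurd (Finset.mem_univ _) h),
      hn1, hm1, hrnorm] at h
    have hs : ∑ ξ, cc ξ ^ 2 = 1 := by
      have h' : ((∑ ξ, cc ξ ^ 2 : ℕ) : ℂ) = ((1 : ℕ) : ℂ) := by rw [h]; simp
      exact_mod_cast h'
    obtain ⟨ξ, hξ⟩ : ∃ ξ, cc ξ ≠ 0 := by
      by_contra hc
      push Not at hc
      simp [hc] at hs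
    have hξ1 := Finset.single_le_sum (f := fun ξ => cc ξ ^ 2) (fun _ _ => Nat.zero_le _) (Finset.mem_univ ξ)
    have hcξ : cc ξ = 1 := by nlinarith [Nat.pos_of_ne_zero hξ]
    have hother : ∀ ξ', ξ' ≠ ξ → cc ξ' = 0 := fun ξ' hne => by
      have h2 := Finset.add_le_sum (f := fun ξ => cc ξ ^ 2) (fun _ _ => Nat.zero_le _)
        (Finset.mem_univ ξ') (Finset.mem_univ ξ) hne
      rw [hs, hcξ] at h2
      have : cc ξ' ^ 2 = 0 := by omega
      exact pow_eq_zero_iff two_ne_zero |>.mp this
    have hrξ : ∀ c, r c = (ξ : D.C → ℂ) c := fun c => by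
      rw [hrexp, Finset.sum_eq_single ξ (fun ξ' _ hne => by rw [hother ξ' hne, Nat.cast_zero, zero_mul])
        (fun h => absurd (Finset.mem_univ _) h), hcξ, Nat.cast_one, one_mul]
    have huc : (⟨u, D.Q_le_C hu⟩ : D.C) ∈ Subgroup.center D.C :=
      Subgroup.mem_center_iff.mpr fun c => Subtype.ext (D.commute_Q hu c).eq.symm
    obtain ⟨ω, hω, hy⟩ := Cyclic.irr_central_mul huc (pow_orderOf_eq_one _) ξ
    have h2 := hy 1
    rw [mul_one, ← hrξ, ← hrξ] at h2
    simp only [hr, OneMemClass.coe_one] at h2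
    rw [h2, norm_mul, norm_eq_one_of_pow_eq_one' (orderOf_pos _).ne' hω, one_mul, hdc,
      Complex.norm_natCast]
  -- otherwise a special constituent
  exfalso
  push Not at hall
  obtain ⟨θ, hθ1, hθn, hθm⟩ := hall
  have hbig : ∀ χ, χ ≠ oneChar G → nn χ * charDegree (χ : G → ℂ) + 1 ≤ d ^ 2 := fun χ hχ => by
    have := Finset.single_le_sum (f := fun θ => nn θ * charDegree (θ : G → ℂ))
      (fun _ _ => Nat.zero_le _) (Finset.mem_erase.mpr ⟨hχ, Finset.mem_univ χ⟩)
    omega
  have hsmall : ∀ χ, χ ≠ oneChar G → nn χ ≠ 0 → charDegree (χ : G → ℂ) + 3 ≤ Nat.card D.Q :=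
    fun χ hχ h0 => by
      have := hbig χ hχ
      have := Nat.le_mul_of_pos_left (charDegree (χ : G → ℂ)) (Nat.pos_of_ne_zero h0)
      omega
  obtain ⟨hθd, hθm1, hθsum⟩ := D.cases_of_mult_one hM hred hθ1 (hsmall θ hθ1 hθn) he hθm
  have hθ3 := hsmall θ hθ1 hθn
  have he3 : 3 ≤ D.e := by omega
  have he9 : 3 * D.e ≤ D.e * D.e := Nat.mul_le_mul_right _ he3
  have hnnθ : nn θ = 1 := by
    by_contra hne
    have h2 : 2 * charDegree (θ : G → ℂ) ≤ nn θ * charDegree (θ : G → ℂ) :=
      Nat.mul_le_mul_right _ (by omega)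
    have := hbig θ hθ1
    omega
  have hothers : ∀ χ, χ ≠ oneChar G → χ ≠ θ → nn χ ≠ 0 → D.mult χ (oneChar D.Q) = 0 := by
    intro χ hχ hχθ h0
    by_contra hm
    obtain ⟨hχd, -, -⟩ := D.cases_of_mult_one hM hred hχ (hsmall χ hχ h0) he hm
    have h := Finset.add_le_sum (f := fun θ => nn θ * charDegree (θ : G → ℂ))
      (fun _ _ => Nat.zero_le _) (Finset.mem_erase.mpr ⟨hθ1, Finset.mem_univ θ⟩)
      (Finset.mem_erase.mpr ⟨hχ, Finset.mem_univ χ⟩) (Ne.symm hχθ)
    have := Nat.le_mul_of_pos_left (charDegree (χ : G → ℂ)) (Nat.pos_of_ne_zero h0)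
    rw [hnnθ, one_mul] at h
    omega
  have hM1 : ∑ ξ, cc ξ ^ 2 = 2 := by
    have h := hmc (oneChar D.Q)
    rw [hrnorm, ← Finset.add_sum_erase _ _ (Finset.mem_univ (oneChar G)), hn1, hm1,
      ← Finset.add_sum_erase _ _ (Finset.mem_erase.mpr ⟨hθ1, Finset.mem_univ θ⟩), hnnθ, hθm1,
      Finset.sum_eq_zero (s := (Finset.univ.erase (oneChar G)).erase θ) fun χ hχ => by
        obtain ⟨h1, h2⟩ := Finset.mem_erase.mp hχ
        by_cases h0 : nn χ = 0
        · rw [h0, Nat.cast_zero, zero_mul]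
        · rw [hothers χ (Finset.mem_erase.mp h2).1 h1 h0, Nat.cast_zero, mul_zero]] at h
    have h' : ((∑ ξ, cc ξ ^ 2 : ℕ) : ℂ) = ((2 : ℕ) : ℂ) := by rw [h]; push_cast; ring
    exact_mod_cast h'
  -- lower bound of the sum
  have hlow : ((1 + charDegree (θ : G → ℂ) : ℕ) : ℝ) ≤ (D.sec Φ 1).re := by
    have e : D.sec Φ 1 = ((∑ χ, nn χ * ∑ l, D.mult χ l : ℕ) : ℂ) := by
      rw [D.sec_eq, Finset.sum_congr rfl fun l _ => by rw [D.lin_one, mul_one, hmc], Finset.sum_comm]
      push_cast
      exact Finset.sum_congr rfl fun χ _ => by rw [Finset.mul_sum]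
    rw [e, Complex.natCast_re, Nat.cast_le]
    have h := Finset.add_le_sum (f := fun χ => nn χ * ∑ l, D.mult χ l)
      (fun _ _ => Nat.zero_le _) (Finset.mem_univ (oneChar G)) (Finset.mem_univ θ) (Ne.symm hθ1)
    rw [hn1, hnnθ, one_mul, one_mul, hθsum] at h
    refine le_trans ?_ h
    refine Nat.add_le_add_right ?_ _
    exact hm1 ▸ Finset.single_le_sum (fun _ _ => Nat.zero_le _) (Finset.mem_univ (oneChar D.Q))
  -- upper bound
  have hupp : (D.sec Φ 1).re ≤ 4 := by
    have hC : (0 : ℝ) < Nat.card D.C := Nat.cast_pos.mpr Nat.card_pos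
    have hle : ∀ ξ, cc ξ ≤ 1 := fun ξ => by
      by_contra h
      have h' : 2 ≤ cc ξ := by omega
      have := Finset.single_le_sum (f := fun ξ => cc ξ ^ 2) (fun _ _ => Nat.zero_le _) (Finset.mem_univ ξ)
      nlinarith
    have hcard : (Finset.univ.filter fun ξ => cc ξ ≠ 0).card = 2 := by
      rw [← hM1, Finset.card_filter]
      refine Finset.sum_congr rfl fun ξ _ => ?_
      have := hle ξ
      interval_cases h : cc ξ <;> simp
    obtain ⟨x, y, hxy, hset⟩ := Finset.card_eq_two.mp hcard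
    have hrxy : ∀ c, r c = (x : D.C → ℂ) c + (y : D.C → ℂ) c := fun c => by
      rw [hrexp, ← Finset.sum_subset (Finset.subset_univ (Finset.univ.filter fun ξ => cc ξ ≠ 0))
        fun ξ _ hξ => by rw [show cc ξ = 0 by simpa using hξ, Nat.cast_zero, zero_mul],
        hset, Finset.sum_pair hxy]
      have hx := hle x
      have hy := hle y
      have hmem : ∀ z ∈ ({x, y} : Finset (IrrCharacter D.C)), cc z ≠ 0 := fun z hz => by
        rw [← hset] at hz
        exact (Finset.mem_filter.mp hz).2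
      have hx0 := hmem x (Finset.mem_insert_self _ _)
      have hy0 := hmem y (Finset.mem_insert_of_mem (Finset.mem_singleton_self _))
      rw [show cc x = 1 by omega, show cc y = 1 by omega]
      simp
    have e : D.sec Φ 1 = (((Nat.card D.Q : ℝ) * (Nat.card D.C : ℝ)⁻¹ *
        ∑ c ∈ D.fib 1, ‖r c‖ ^ 2 : ℝ) : ℂ) := by
      simp [sec, hΦdef, hr, Complex.mul_conj']
    rw [e, Complex.ofReal_re, mul_comm (Nat.card D.Q : ℝ), mul_assoc, inv_mul_le_iff₀ hC]
    have h2 : ∀ c : D.C, ‖r c‖ ^ 2 ≤ 2 * ‖(x : D.C → ℂ) c‖ ^ 2 + 2 * ‖(y : D.C → ℂ) c‖ ^ 2 := fun c => by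
      rw [hrxy]
      have h0 := norm_add_le ((x : D.C → ℂ) c) ((y : D.C → ℂ) c)
      nlinarith [norm_nonneg ((x : D.C → ℂ) c + (y : D.C → ℂ) c),
        sq_nonneg (‖(x : D.C → ℂ) c‖ - ‖(y : D.C → ℂ) c‖)]
    calc (Nat.card D.Q : ℝ) * ∑ c ∈ D.fib 1, ‖r c‖ ^ 2
        ≤ (Nat.card D.Q : ℝ) * ∑ c ∈ D.fib 1,
            (2 * ‖(x : D.C → ℂ) c‖ ^ 2 + 2 * ‖(y : D.C → ℂ) c‖ ^ 2) :=
          mul_le_mul_of_nonneg_left (Finset.sum_le_sum fun c _ => h2 c) (Nat.cast_nonneg _)
      _ = (Nat.card D.C : ℝ) * 4 := by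
          rw [Finset.sum_add_distrib, ← Finset.mul_sum, ← Finset.mul_sum, mul_add, mul_left_comm,
            D.fib_norm, mul_left_comm, D.fib_norm]
          ring
  have hfin : 1 + charDegree (θ : G → ℂ) ≤ 4 := by exact_mod_cast hlow.trans hupp
  omega

end Uniform

/-- The theorem, by induction on the order. -/
theorem normal_of_small_faithful_degree {p : ℕ} [Fact p.Prime] {M : Ideal AlgInt} [M.IsMaximal]
    (hM : IsPModular p M) : ∀ (n : ℕ) (G : Type u) [Group G] [Finite G], Nat.card G = n →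
      ∀ P : Sylow p G, (P : Subgroup G) ≠ ⊥ →
      (∀ x ∈ (P : Subgroup G), x ≠ 1 →
        Subgroup.centralizer ({x} : Set G) = Subgroup.centralizer ((P : Subgroup G) : Set G)) →
      ∀ χ : G → ℂ, IsCharacter G χ → (∀ g : G, χ g = χ 1 → g = 1) →
      charDegree χ ^ 2 + 2 ≤ Nat.card P → (P : Subgroup G).Normal := by
  intro n
  induction n using Nat.strong_induction_on with
  | _ n ih =>
    intro G _ _ hn P hbot hstar χ hχ hfaith hdeg
    classical
    let _ : Fintype G := Fintype.ofFinite G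
    by_cases hsub : ∀ H : Subgroup G, H.Normal → (P : Subgroup G) ≤ H → H = ⊤
    swap
    · push Not at hsub
      obtain ⟨H, hH, hle, hne⟩ := hsub
      have hlt : Nat.card H < n := hn ▸ lt_of_le_of_ne (Subgroup.card_le_card_group H)
        (fun e => hne ((Subgroup.card_eq_iff_eq_top H).mp e))
      have hcardP : Nat.card (P.subtype hle) = Nat.card P := by
        show Nat.card ((P.subtype hle : Sylow p H) : Subgroup H) = _
        rw [Sylow.coe_subtype]
        exact Nat.card_congr (Subgroup.subgroupOfEquivOfLe hle).toEquiv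
      have hN := ih _ hlt H rfl (P.subtype hle) (fun e => hbot (by
          rw [Sylow.coe_subtype, Subgroup.subgroupOf_eq_bot] at e
          exact disjoint_self.mp (e.mono_right hle)))
        (fun x hx hx1 => by
          rw [Sylow.coe_subtype] at hx
          have h := hstar x hx fun e => hx1 (Subtype.ext e)
          ext t
          rw [Subgroup.mem_centralizer_singleton_iff, Subgroup.mem_centralizer_iff]
          have ht : (t : G) * (x : G) = (x : G) * t ↔ (t : G) ∈ Subgroup.centralizer ((P : Subgroup G) : Set G) := by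
            rw [← h, Subgroup.mem_centralizer_singleton_iff]
          constructor
          · intro htx w hw
            rw [Sylow.coe_subtype, SetLike.mem_coe, Subgroup.mem_subgroupOf] at hw
            exact Subtype.ext (Subgroup.mem_centralizer_iff.mp (ht.mp (congrArg Subtype.val htx)) w hw)
          · intro hall
            exact (hall x (by rwa [Sylow.coe_subtype])).symm)
        (fun h => χ h) (isCharacter_comp hχ H.subtype)
        (fun g hg => Subtype.ext (hfaith g (by simpa using hg)))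
        (by rw [hcardP]; simpa [charDegree] using hdeg)
      have := Sylow.characteristic_of_normal (P.subtype hle) hN
      have hmap : ((P.subtype hle : Sylow p H) : Subgroup H).map H.subtype = (P : Subgroup G) := by
        rw [Sylow.coe_subtype, Subgroup.map_subgroupOf_eq_of_le hle]
      rw [← hmap]
      exact ConjAct.normal_of_characteristic_of_normal
    let D : Uniform p G := ⟨P, hbot, hstar⟩
    let _ : Fintype D.C := Fintype.ofFinite _
    let _ : Fintype D.Q := Fintype.ofFinite _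
    let _ : Fintype D.N := Fintype.ofFinite _
    have := Fintype.ofFinite (IrrCharacter G)
    have := Fintype.ofFinite (IrrCharacter D.Q)
    choose cc hcc using fun η : IrrCharacter G => classInner_isCharacter hχ (isCharacter_irr η)
    have hexp : ∀ g, χ g = ∑ η, (cc η : ℂ) * (η : G → ℂ) g := fun g => by
      have h := congrFun (classFun_expand (isClassFunction_of_isCharacter hχ)) g
      rw [Finset.sum_apply] at h
      rw [h]
      exact Finset.sum_congr rfl fun θ _ => by rw [Pi.smul_apply, smul_eq_mul, hcc θ]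
    have hx : charDegree χ = ∑ η, cc η * charDegree (η : G → ℂ) := by
      have : χ 1 = ((∑ η, cc η * charDegree (η : G → ℂ) : ℕ) : ℂ) := by
        rw [hexp]
        push_cast
        exact Finset.sum_congr rfl fun η _ => by rw [(charDegree_eq η).1]
      show ⌊(χ 1).re⌋₊ = _
      rw [this, Complex.natCast_re, Nat.floor_natCast]
    refine ⟨fun u hu g => ?_⟩
    have hcomm : ∀ η : IrrCharacter G, cc η ≠ 0 →
        (η : G → ℂ) (g * u * g⁻¹ * u⁻¹) = (η : G → ℂ) 1 := by
      intro η hη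
      have hle : charDegree (η : G → ℂ) ≤ charDegree χ := by
        rw [hx]
        exact (Nat.le_mul_of_pos_left _ (Nat.pos_of_ne_zero hη)).trans
          (Finset.single_le_sum (f := fun η => cc η * charDegree (η : G → ℂ))
            (fun _ _ => Nat.zero_le _) (Finset.mem_univ η))
      have hn := D.scalar_of_small hM hsub η
        ((Nat.add_le_add_right (Nat.pow_le_pow_left hle 2) 2).trans hdeg) hu
      obtain ⟨d, ρ, hρ, hρη⟩ := η.2
      have hfr : charDegree (η : G → ℂ) = Module.finrank ℂ (Fin d → ℂ) := by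
        rw [← hρη]; simp [charDegree, Representation.char_one]
      rw [hfr, ← hρη] at hn
      obtain ⟨ω, hω⟩ := (norm_char_eq_iff ρ u).mp hn
      rw [← hρη]
      show ρ.character _ = ρ.character 1
      have hc : ρ g * ρ u = ρ u * ρ g := by
        rw [hω, ← Module.End.one_eq_id, mul_smul_comm, smul_mul_assoc, mul_one, one_mul]
      simp only [Representation.character]
      congr 1
      rw [map_mul, map_mul, map_mul, hc, mul_assoc (ρ u), ← map_mul ρ g, mul_inv_cancel, map_one,
        mul_one, ← map_mul, mul_inv_cancel, map_one]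
    have h1 : χ (g * u * g⁻¹ * u⁻¹) = χ 1 := by
      rw [hexp, hexp]
      refine Finset.sum_congr rfl fun η _ => ?_
      by_cases h0 : cc η = 0
      · simp [h0]
      · rw [hcomm η h0]
    rwa [mul_inv_eq_one.mp (hfaith _ h1)]

end CfsgLib.Block.TI
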